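import Mathlib
import Cfsg.Agent.H996.Deg.Harm

/-!
# The `U`-eigenfunctions on the chambers (helper996)

`trace_ML` : the trace of an endomorphism `π` of the permutation module on the `λ`-eigenspace of `U` is its trace on
`E_K`, `K` the support of `λ`.
-/

set_option autoImplicit false
set_option linter.unusedSectionVars false
set_option linter.unusedVariables false

namespace Cfsg.Agent.H996.Deg.Bd

open Module Cfsg Cfsg.Agent.Tits.Core Cfsg.Agent.Tits.Core.Bldg Cfsg.Agent.Tits.Exchange Cfsg.Agent.H167.AltTrace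
  Cfsg.Agent.H249 Cfsg.Agent.H249.Pair Cfsg.Agent.H249.Rank1 Classical

variable {I W Y C : Type*} [DecidableEq I] [Fintype I] [Group W] [Group Y] {M : CoxeterMatrix I}
  {cs : CoxeterSystem M W} {p : ℕ} [MulAction Y C]

/-- the `λ`-eigenfunctions -/
def ML (D : Dat Y I p) (C : Type*) [MulAction Y C] (l : Y → ℂ) : Submodule ℂ (C → ℂ) where
  carrier := {h | ∀ u ∈ D.U, ∀ y, h (u • y) = l u * h y}
  add_mem' := by
    intro a b ha hb u hu y
    rw [Pi.add_apply, Pi.add_apply, ha u hu, hb u hu, mul_add]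
  zero_mem' := by
    intro u hu y
    simp
  smul_mem' := by
    intro a f hf u hu y
    rw [Pi.smul_apply, Pi.smul_apply, hf u hu, smul_eq_mul, smul_eq_mul]
    ring

theorem mem_ML {D : Dat Y I p} {l : Y → ℂ} {h : C → ℂ} :
    h ∈ ML D C l ↔ ∀ u ∈ D.U, ∀ y, h (u • y) = l u * h y := Iff.rfl

variable {D : Dat Y I p} {Δ : Bldg cs C} {c : C}

theorem _root_.Cfsg.Agent.H996.Deg.Bd.Com.mem_ML {π : (C → ℂ) →ₗ[ℂ] (C → ℂ)} (hπ : Com Y π) {l : Y → ℂ} {f : C → ℂ}
    (hf : f ∈ ML D C l) : π f ∈ ML D C l := by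
  intro u hu y
  have h1 := hπ u f
  have h2 : sh u f = l u • f := by
    funext y
    exact hf u hu y
  rw [h2, map_smul] at h1
  exact (congrFun h1 y).symm

variable [Fintype Y] [Fintype C]

/-- the map from the eigenfunctions to the `B`-invariants -/
noncomputable def bet (D : Dat Y I p) (w : Y) : (C → ℂ) →ₗ[ℂ] (C → ℂ) where
  toFun h y := ∑ b ∈ fs D.B, h (w • b • y)
  map_add' h h' := by
    funext y
    simp only [Pi.add_apply, Finset.sum_add_distrib]
  map_smul' a h := by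
    funext y
    simp only [Pi.smul_apply, RingHom.id_apply, smul_eq_mul, Finset.mul_sum]

theorem bet_apply (w : Y) (h : C → ℂ) (y : C) : bet D w h y = ∑ b ∈ fs D.B, h (w • b • y) := rfl

theorem Com.bet {π : (C → ℂ) →ₗ[ℂ] (C → ℂ)} (hπ : Com Y π) (w : Y) (f : C → ℂ) :
    π (Bd.bet D w f) = Bd.bet D w (π f) := by
  have h1 : Bd.bet D w f = fun y => ∑ g ∈ fs D.B, (sh w f) (g • y) := rfl
  have h2 : Bd.bet D w (π f) = fun y => ∑ g ∈ fs D.B, (sh w (π f)) (g • y) := rfl
  rw [h1, hπ.sum_fs, hπ w f, h2]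

variable (S : Bd D Δ c)
include S

theorem bet_mem {K : Finset I} (E : JDat D (K : Set I)) {l : Y → ℂ} (hl : Chr D.U l)
    (hJ : ∀ j ∈ K, ∃ x ∈ D.X j, l x ≠ 1) {h : C → ℂ} (hh : h ∈ ML D C l) : bet D E.w h ∈ EK D C K := by
  refine ⟨fun b hb y => ?_, fun i hi y => ?_⟩
  · rw [bet_apply, bet_apply, ← sum_mul_right hb (fun b => h (E.w • b • y))]
    exact Finset.sum_congr rfl fun v _ => by rw [mul_smul]
  · simp only [bet_apply]
    rw [Finset.sum_comm]
    refine Finset.sum_eq_zero fun b hb => ?_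
    have h1 : ∑ g ∈ fs (D.P i), h (E.w • b • g • y) = ∑ g ∈ fs (D.P i), h (E.w • g • y) := by
      rw [← sum_mul_left (D.B_le_P i (mem_fs.1 hb)) (fun g => h (E.w • g • y))]
      exact Finset.sum_congr rfl fun v _ => by rw [mul_smul]
    rw [h1]
    set k := E.w * D.n i with hk
    have h2 : ∑ g ∈ fs (D.P i), h (E.w • g • y) = ∑ g ∈ fs (D.P i), h (k • g • y) := by
      rw [← sum_mul_left (D.n_mem_P i) (fun g => h (E.w • g • y))]
      exact Finset.sum_congr rfl fun v _ => by rw [hk, mul_smul, mul_smul]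
    rw [h2]
    have hkN : k ∈ D.N := mul_mem E.wN (D.nN i)
    rcases E.dich k hkN with ⟨j, hj, hX⟩ | h3
    · obtain ⟨x, hx, hx1⟩ := hJ j (Finset.mem_coe.1 hj)
      have h4 := hX x hx
      have h5 : ∑ g ∈ fs (D.P i), h (k • g • y) = l x * ∑ g ∈ fs (D.P i), h (k • g • y) := by
        conv_lhs => rw [← sum_mul_left (D.B_le_P i h4) (fun g => h (k • g • y))]
        rw [Finset.mul_sum]
        refine Finset.sum_congr rfl fun g _ => ?_
        rw [← hh x (D.XU j hx)]
        congr 1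
        simp only [smul_smul]
        congr 1
        group
      have h6 : (1 - l x) * ∑ g ∈ fs (D.P i), h (k • g • y) = 0 := by linear_combination h5
      rcases mul_eq_zero.1 h6 with h7 | h7
      · exact absurd (sub_eq_zero.1 h7).symm hx1
      · exact h7
    · exfalso
      obtain ⟨x, hx, hx1⟩ := hJ i hi
      have h4 := h3 x (E.XV i (Finset.mem_coe.2 hi) hx)
      have h5 : k⁻¹ * (E.w * x * E.w⁻¹) * k = (D.n i)⁻¹ * x * D.n i := by rw [hk]; group
      rw [h5] at h4
      rw [D.nX i x hx h4] at hx1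
      exact hx1 hl.one

theorem bet_inj {J : Set I} (E : JDat D J) {l : Y → ℂ} (hJ : ∀ j ∈ J, ∃ x ∈ D.X j, l x ≠ 1)
    (hQ : ∀ v ∈ E.Q, l v = 1) {h : C → ℂ} (hh : h ∈ ML D C l) (h0 : bet D E.w h = 0) : h = 0 := by
  funext z
  obtain ⟨g, rfl⟩ := S.trans z
  obtain ⟨u, hu, k, hk, b, hb, rfl⟩ := D.bruhat g
  have hbc : b • c = c := (S.B b).1 hb
  rw [mul_smul, mul_smul, hbc, hh u hu, Pi.zero_apply]
  suffices hz : h (k • c) = 0 by rw [hz, mul_zero]
  rcases E.dich k hk with ⟨j, hj, hX⟩ | h3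
  · obtain ⟨x, hx, hx1⟩ := hJ j hj
    have h4 : (k⁻¹ * x * k) • c = c := (S.B _).1 (hX x hx)
    have h5 : h (k • c) = l x * h (k • c) := by
      rw [← hh x (D.XU j hx)]
      conv_lhs => rw [← h4]
      congr 1
      simp only [smul_smul]
      congr 1
      group
    have h6 : (1 - l x) * h (k • c) = 0 := by linear_combination h5
    rcases mul_eq_zero.1 h6 with h7 | h7
    · exact absurd (sub_eq_zero.1 h7).symm hx1
    · exact h7
  · set d := E.w⁻¹ * k with hd
    have hdN : d ∈ D.N := mul_mem (inv_mem E.wN) hk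
    have h4 := congrFun h0 (d • c)
    rw [bet_apply, Pi.zero_apply] at h4
    have h5 : ∀ b ∈ fs D.B, h (E.w • b • d • c) = h (k • c) := by
      intro b hb
      obtain ⟨t, ht, u, hu, e⟩ := D.mem_B.1 (inv_mem (mem_fs.1 hb))
      obtain ⟨v, hv, x, hx, e2⟩ := E.mul u⁻¹ (inv_mem hu)
      have e3 : b = v * x * t⁻¹ := by
        have : b = u⁻¹ * t⁻¹ := by rw [← inv_inv b, e]; group
        rw [this, e2]
      have h6 : t⁻¹ • d • c = d • c := by
        have h7 : d⁻¹ * t⁻¹ * d ∈ D.T := by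
          have := D.NT d⁻¹ (inv_mem hdN) t⁻¹ (inv_mem ht)
          rwa [inv_inv] at this
        have h8 : (d⁻¹ * t⁻¹ * d) • c = c := (S.B _).1 (D.T_le_B h7)
        conv_rhs => rw [← h8]
        simp only [smul_smul]
        congr 1
        group
      have h7 : x • d • c = d • c := by
        have h8 : (d⁻¹ * x * d) • c = c := by
          rw [← S.B]
          have := h3 x hx
          have e4 : k⁻¹ * (E.w * x * E.w⁻¹) * k = d⁻¹ * x * d := by rw [hd]; group
          rw [e4] at this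
          exact this
        conv_rhs => rw [← h8]
        simp only [smul_smul]
        congr 1
        group
      have h8 : E.w • b • d • c = (E.w * v * E.w⁻¹) • k • c := by
        have e5 : b • d • c = v • d • c := by
          rw [e3, mul_smul, mul_smul, h6, h7]
        rw [e5, hd]
        simp only [smul_smul]
        congr 1
        group
      rw [h8, hh _ (E.QU (E.wQ v hv)), hQ _ (E.wQ v hv), one_mul]
    rw [Finset.sum_congr rfl h5, Finset.sum_const, nsmul_eq_mul, card_fs] at h4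
    exact (mul_eq_zero.1 h4).resolve_left (card_pos' _)

/-- an element of `U` fixing a chamber on the other side is in `Q_j` -/
theorem mem_Q {j : I} {y : C} (hy : cs.length (cs.simple j * Δ.δ c y) < cs.length (Δ.δ c y)) {u : Y} (hu : u ∈ D.U)
    (huy : u • y = y) : u ∈ D.Q j := by
  obtain ⟨z, hz, hz2⟩ := Δ.exists_step y c j
  have h1 : Δ.δ z y = cs.simple j * Δ.δ c y := by
    rw [Δ.symm y z, hz2, mul_inv_rev, cs.inv_simple, ← Δ.symm y c]
  have h2 : Δ.δ c (u • z) = cs.simple j := by rw [S.δ_B (D.U_le_B hu), hz]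
  have h3 : Δ.δ (u • z) y = cs.simple j * Δ.δ c y := by
    conv_lhs => rw [← huy]
    rw [S.iso, h1]
  have h4 : u • z = z := by
    have h5 : Δ.δ z c = cs.simple j := Δ.δ_symm_simple hz
    rcases Δ.step z c (u • z) j h2 with h6 | h6
    · rw [h5, cs.simple_mul_simple_self, Δ.eq_one] at h6
      exact h6.symm
    · exfalso
      rw [h5] at h6
      have h7 := Δ.step_lt_left (z := y) h6 (by rw [h3, cs.simple_mul_simple_cancel_left]; exact hy)
      rw [h3, cs.simple_mul_simple_cancel_left, h1] at h7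
      rw [h7] at hy
      exact lt_irrefl _ hy
  obtain ⟨b, hb, hbz⟩ := S.tr c (D.n j • c) c z (by rw [S.n, hz])
  have hbB : b ∈ D.B := (S.B b).2 hb
  have h5 : (D.n j)⁻¹ * (b⁻¹ * u * b) * D.n j ∈ D.B := by
    rw [S.B]
    have h6 : ((D.n j)⁻¹ * (b⁻¹ * u * b) * D.n j) • c = (D.n j)⁻¹ • b⁻¹ • u • b • D.n j • c := by
      simp only [smul_smul]
      congr 1
      group
    rw [h6, hbz, h4, ← hbz, inv_smul_smul, inv_smul_smul]
  have h6 : b⁻¹ * u * b ∈ D.U := by
    have := D.BU b⁻¹ (inv_mem hbB) u hu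
    rwa [inv_inv] at this
  obtain ⟨v, hv, x, hx, e⟩ := D.mul j _ h6
  have h7 : (D.n j)⁻¹ * x * D.n j ∈ D.B := by
    have e2 : (D.n j)⁻¹ * x * D.n j = ((D.n j)⁻¹ * v * D.n j)⁻¹ * ((D.n j)⁻¹ * (b⁻¹ * u * b) * D.n j) := by
      rw [e]; group
    rw [e2]
    exact mul_mem (inv_mem (D.U_le_B (D.QU j (D.nQ' j v hv)))) h5
  have h8 := D.nX j x hx h7
  rw [h8, mul_one] at e
  have e3 : u = b * v * b⁻¹ := by rw [← e]; group
  rw [e3]
  exact D.BQ j b hbB v hv

omit S in
/-- the eigenfunction supported on the `U`-orbit of `z` -/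
noncomputable def psi (D : Dat Y I p) (l : Y → ℂ) (z : C) : C → ℂ :=
  fun v => ∑ u ∈ fs D.U, if u • z = v then l u else 0

omit S in
theorem psi_mem {l : Y → ℂ} (hl : Chr D.U l) (z : C) : psi D l z ∈ ML D C l := by
  intro u hu y
  simp only [psi]
  rw [← sum_mul_left hu (fun w => if w • z = u • y then l w else 0), Finset.mul_sum]
  refine Finset.sum_congr rfl fun w hw => ?_
  have : (u * w) • z = u • y ↔ w • z = y := by
    rw [mul_smul, smul_left_cancel_iff]
  rw [hl.mul u hu w (mem_fs.1 hw)]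
  simp only [this]
  split_ifs <;> simp

theorem psi_ne {l : Y → ℂ} {z v : C} (h : psi D l z v ≠ 0) : Δ.δ c v = Δ.δ c z := by
  by_contra hcon
  apply h
  simp only [psi]
  refine Finset.sum_eq_zero fun u hu => ?_
  rw [if_neg]
  rintro rfl
  exact hcon (S.δ_B (D.U_le_B (mem_fs.1 hu)) z)

omit S in
theorem psi_self {l : Y → ℂ} {z : C} (hz : ∀ u ∈ D.U, u • z = z → l u = 1) : psi D l z z ≠ 0 := by
  simp only [psi]
  have : ∀ u ∈ fs D.U, (if u • z = z then l u else 0) = if u • z = z then 1 else 0 := by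
    intro u hu
    split_ifs with h
    · exact hz u (mem_fs.1 hu) h
    · rfl
  rw [Finset.sum_congr rfl this, ← Finset.sum_filter, Finset.sum_const, nsmul_eq_mul, mul_one]
  have : 0 < ((fs D.U).filter (fun u => u • z = z)).card :=
    Finset.card_pos.2 ⟨1, by rw [Finset.mem_filter]; exact ⟨mem_fs.2 (one_mem _), one_smul _ _⟩⟩
  exact_mod_cast this.ne'

variable [Fintype W]

theorem card_le_finrank {K : Finset I} {l : Y → ℂ} (hl : Chr D.U l)
    (ht : ∀ u ∈ D.U, (∀ j ∈ K, u ∈ D.Q j) → l u = 1) :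
    Nat.card {x : W // ∀ i ∈ K, cs.length (cs.simple i * x) < cs.length x} ≤ finrank ℂ (ML D C l) := by
  choose z hz using fun w : W => Δ.exists_δ c w
  have hli : LinearIndependent ℂ (fun x : {x : W // ∀ i ∈ K, cs.length (cs.simple i * x) < cs.length x} =>
      (⟨psi D l (z x.1), psi_mem hl _⟩ : ML D C l)) := by
    rw [Fintype.linearIndependent_iff]
    intro a ha x
    have h1 : (∑ y, a y • psi D l (z y.1)) (z x.1) = 0 := by
      have h2 := congrArg (fun f : ML D C l => (f : C → ℂ) (z x.1)) ha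
      simp only [Submodule.coe_sum, Submodule.coe_smul, Submodule.coe_zero] at h2
      exact h2
    rw [Finset.sum_apply, Finset.sum_eq_single x] at h1
    · rw [Pi.smul_apply, smul_eq_mul] at h1
      refine (mul_eq_zero.1 h1).resolve_right (psi_self fun u hu huz => ht u hu fun j hj => ?_)
      refine S.mem_Q (y := z x.1) ?_ hu huz
      rw [hz]
      exact x.2 j hj
    · intro y _ hy
      rw [Pi.smul_apply, smul_eq_mul]
      by_contra hne
      have h3 := S.psi_ne (right_ne_zero_of_mul hne)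
      rw [hz, hz] at h3
      exact hy (Subtype.ext h3.symm)
    · intro h; exact absurd (Finset.mem_univ x) h
  rw [Nat.card_eq_fintype_card]
  exact hli.fintype_card_le_finrank

/-- **the trace on the eigenspaces** -/
theorem trace_ML_of_jdat {K : Finset I} (E : JDat D (K : Set I)) {l : Y → ℂ} (hl : Chr D.U l)
    (hJ : ∀ j ∈ K, ∃ x ∈ D.X j, l x ≠ 1) (hQ : ∀ v ∈ E.Q, l v = 1)
    (ht : ∀ u ∈ D.U, (∀ j ∈ K, u ∈ D.Q j) → l u = 1) {π : (C → ℂ) →ₗ[ℂ] (C → ℂ)} (hπ : Com Y π) :
    LinearMap.trace ℂ (ML D C l) (π.restrict fun f hf => hπ.mem_ML hf) =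
      LinearMap.trace ℂ (EK D C K) (π.restrict fun f hf => hπ.mem_EK hf) := by
  set b : ML D C l →ₗ[ℂ] EK D C K := (bet D E.w).restrict (fun h hh => S.bet_mem E hl hJ hh) with hb
  have hinj : Function.Injective b := by
    rw [injective_iff_map_eq_zero]
    intro h h0
    apply Subtype.ext
    refine S.bet_inj E (fun j hj => hJ j (Finset.mem_coe.1 hj)) hQ h.2 ?_
    exact congrArg Subtype.val h0
  have h1 : finrank ℂ (ML D C l) = finrank ℂ (EK D C K) := by
    refine le_antisymm (LinearMap.finrank_le_finrank_of_injective hinj) ?_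
    rw [S.finrank_EK]
    exact S.card_le_finrank hl ht
  let e := LinearEquiv.ofInjectiveOfFinrankEq b hinj h1
  have he : ∀ x, e x = b x := fun x => rfl
  rw [← LinearMap.trace_conj' _ e]
  congr 1
  apply LinearMap.ext
  intro x
  obtain ⟨y, rfl⟩ := e.surjective x
  rw [LinearEquiv.conj_apply_apply, LinearEquiv.symm_apply_apply]
  apply Subtype.ext
  show (bet D E.w) (π y) = π (bet D E.w y)
  rw [hπ.bet]

omit S in
theorem trace_congr {V : Type*} [AddCommGroup V] [Module ℂ V] {A B : Submodule ℂ V} (h : A = B) (g : V →ₗ[ℂ] V)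
    (hA : ∀ v ∈ A, g v ∈ A) (hB : ∀ v ∈ B, g v ∈ B) :
    LinearMap.trace ℂ A (g.restrict hA) = LinearMap.trace ℂ B (g.restrict hB) := by
  subst h
  rfl

theorem gen : Gen Y (Ω := C) D.B := by
  intro h hh
  funext z
  obtain ⟨g, rfl⟩ := S.trans z
  have h1 := hh g (Rank1.ind D.B c) (ind_inv D.B c)
  unfold pr at h1
  rw [Finset.sum_eq_single c] at h1
  · unfold Rank1.ind at h1
    rw [if_pos (self_mem_orb _ _), mul_one] at h1
    exact h1
  · intro y _ hy
    unfold Rank1.ind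
    rw [if_neg, mul_zero]
    intro h2
    obtain ⟨b, hb, rfl⟩ := mem_orb.1 h2
    exact hy ((S.B b).1 hb)
  · intro h; exact absurd (Finset.mem_univ c) h

theorem trace_ML_one {l : Y → ℂ} (h1 : ∀ u ∈ D.U, l u = 1) {π : (C → ℂ) →ₗ[ℂ] (C → ℂ)} (hπ : Com Y π) :
    LinearMap.trace ℂ (ML D C l) (π.restrict fun f hf => hπ.mem_ML hf) =
      LinearMap.trace ℂ (EK D C ∅) (π.restrict fun f hf => hπ.mem_EK hf) := by
  apply trace_congr
  ext h
  rw [mem_ML, mem_EK]
  constructor
  · intro hh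
    refine ⟨D.inv_B S.gen fun u hu y => ?_, fun i hi => absurd hi (Finset.notMem_empty i)⟩
    rw [hh u hu, h1 u hu, one_mul]
  · rintro ⟨hB, -⟩ u hu y
    rw [h1 u hu, one_mul]
    exact hB u (D.U_le_B hu) y

/-- the support of a linear character -/
noncomputable def _root_.Cfsg.Agent.H996.Deg.Bd.supp (D : Dat Y I p) (l : Y → ℂ) : Finset I :=
  Finset.univ.filter fun j => ∃ x ∈ D.X j, l x ≠ 1

omit S in
theorem mem_supp {l : Y → ℂ} {j : I} : j ∈ supp D l ↔ ∃ x ∈ D.X j, l x ≠ 1 := by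
  simp [supp]

/-- **the trace on the eigenspaces** -/
theorem trace_ML (hgen : D.U ≤ ⁅D.U, D.U⁆ ⊔ ⨆ i, D.X i)
    (hE : ∀ J : Set I, J.Nonempty → ∃ E : JDat D J, E.Q ≤ ⁅D.U, D.U⁆ ⊔ ⨆ i : (Jᶜ : Set I), D.X i)
    {l : Y → ℂ} (hl : Chr D.U l) {π : (C → ℂ) →ₗ[ℂ] (C → ℂ)} (hπ : Com Y π) :
    LinearMap.trace ℂ (ML D C l) (π.restrict fun f hf => hπ.mem_ML hf) =
      LinearMap.trace ℂ (EK D C (supp D l)) (π.restrict fun f hf => hπ.mem_EK hf) := by
  have ht : ∀ u ∈ D.U, (∀ j ∈ supp D l, u ∈ D.Q j) → l u = 1 := fun u hu h =>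
    chr_eq_one D hl hgen hu fun j hj => h j (mem_supp.2 hj)
  rcases (supp D l).eq_empty_or_nonempty with h0 | hne
  · have h1 : ∀ u ∈ D.U, l u = 1 := fun u hu => ht u hu fun j hj => by rw [h0] at hj; exact absurd hj (Finset.notMem_empty j)
    have h2 := S.trace_ML_one h1 hπ
    rw [h2]
    apply trace_congr
    rw [h0]
  · obtain ⟨E, hEQ⟩ := hE (supp D l : Set I) hne
    refine S.trace_ML_of_jdat E hl (fun j hj => mem_supp.1 hj) (fun v hv => ?_) ht hπ
    refine chr_ker D hl hEQ (fun i hi y hy => ?_) hv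
    by_contra h
    exact hi (Finset.mem_coe.2 (mem_supp.2 ⟨y, hy, h⟩))

end Cfsg.Agent.H996.Deg.Bd
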