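import Mathlib
import Cfsg.Agent.H996.Deg.Main
import Cfsg.Agent.S0138
import Cfsg.Agent.S0142
import Cfsg.Agent.S0143
import Cfsg.Agent.Lib.NormalAbelian
import Cfsg.Agent.PermutationGroups.PermChar
import Cfsg.Agent.H33.IM
import Cfsg.Prelude.Def_DegreeGraph

/-!
# Constituents of `1_B^G`: degrees divisible by `p` and by another prime (helper996)
-/

set_option autoImplicit false
set_option linter.unusedSectionVars false
set_option linter.unusedVariables false

namespace Cfsg.Agent.H996.Deg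

open Module Cfsg Cfsg.Agent.Tits.Core Cfsg.Agent.Tits.Core.Bldg Cfsg.Agent.Tits.Exchange Cfsg.Agent.H167.AltTrace
  Cfsg.Agent.H249 Cfsg.Agent.H249.Pair Cfsg.Agent.H249.Rank1 Classical Cfsg.Agent.Characters.Core
  Cfsg.Agent.PermutationGroups.PermChar

/-- In a nonabelian simple group an element `≠ 1` acts by a scalar only in the trivial representation. -/
theorem trivial_of_norm {G : Type*} [Group G] [Finite G] [IsSimpleGroup G] (hnc : ¬ IsMulCommutative G) {g : G}
    (hg : g ≠ 1) {V : Type*} [AddCommGroup V] [Module ℂ V] [FiniteDimensional ℂ V] (ρ : Representation ℂ G V)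
    [ρ.IsIrreducible] (h : ‖ρ.character g‖ = (finrank ℂ V : ℝ)) : ρ.character = fun _ => 1 := by
  obtain ⟨ω, hω⟩ := (S0138.result ρ g).1 h
  rcases (MonoidHom.normal_ker ρ).eq_bot_or_eq_top with hk | hk
  · exfalso
    have hinj : Function.Injective ρ := (MonoidHom.ker_eq_bot_iff ρ).1 hk
    have hc : g ∈ Subgroup.center G := by
      rw [Subgroup.mem_center_iff]
      intro x
      apply hinj
      rw [map_mul, map_mul, hω]
      ext v
      simp
    rcases (inferInstance : (Subgroup.center G).Normal).eq_bot_or_eq_top with h1 | h1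
    · rw [h1, Subgroup.mem_bot] at hc
      exact hg hc
    · exact hnc ⟨⟨fun a b => (Subgroup.mem_center_iff.1 (h1 ▸ Subgroup.mem_top a) b).symm⟩⟩
  · have h1 : ∀ x, ρ x = 1 := fun x => by
      have : x ∈ ρ.ker := by rw [hk]; exact Subgroup.mem_top x
      exact this
    have h2 := S0143.finrank_eq_one_of_forall_eq_one ρ h1
    funext x
    show LinearMap.trace ℂ _ (ρ x) = _
    rw [h1 x, LinearMap.trace_one, h2, Nat.cast_one]

namespace Bd

variable {I W Y C : Type*} [DecidableEq I] [Fintype I] [Group W] [Group Y] {M : CoxeterMatrix I}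
  {cs : CoxeterSystem M W} {p : ℕ} [MulAction Y C] {D : Dat Y I p} {Δ : Bldg cs C} {c : C}
  [Fintype Y] [Fintype C] [Fintype W]

/-- **The nontrivial constituents of `1_B^G` have degree divisible by `p`.** -/
theorem dvd_of_constituent (S : Bd D Δ c) (hgen : D.U ≤ ⁅D.U, D.U⁆ ⊔ ⨆ i, D.X i)
    (hE : ∀ J : Set I, J.Nonempty → ∃ E : JDat D J, E.Q ≤ ⁅D.U, D.U⁆ ⊔ ⨆ i : (Jᶜ : Set I), D.X i)
    {χ : Y → ℂ} (hχ : IsIrrCharacter Y χ) (h1 : χ ≠ fun _ => 1)
    (hin : classInner (fun g : Y => (Nat.card (MulAction.fixedBy C g) : ℂ)) χ ≠ 0) {n : ℕ} (hn : χ 1 = n) :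
    p ∣ n := by
  obtain ⟨k, ρ, hρ, rfl⟩ := hχ
  rw [classInner_permChar] at hin
  have h2 : finrank ℂ (ρ.IntertwiningMap (permRep ℂ Y C)) ≠ 0 := by exact_mod_cast hin
  obtain ⟨f, hf⟩ : ∃ f : Representation.IntertwiningMap ρ (permRep ℂ Y C), f ≠ 0 := by
    have : Nontrivial (Representation.IntertwiningMap ρ (permRep ℂ Y C)) :=
      Module.nontrivial_of_finrank_pos (R := ℂ) (Nat.pos_of_ne_zero h2)
    exact exists_ne 0
  have hinj : Function.Injective f := (Representation.IsIrreducible.injective_or_eq_zero f).resolve_right hf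
  have h3 : finrank ℂ (rangeSub f).toSubmodule = n := by
    have h4 : finrank ℂ (LinearMap.range f.toLinearMap) = finrank ℂ (Fin k → ℂ) :=
      LinearMap.finrank_range_of_inj hinj
    have h5 : (finrank ℂ (Fin k → ℂ) : ℂ) = n := by rw [← hn, Representation.char_one]
    have h6 : finrank ℂ (Fin k → ℂ) = n := by exact_mod_cast h5
    rw [← h6, ← h4]
    rfl
  rw [← h3]
  refine S.dvd_finrank hgen hE (rangeSub f) ?_
  -- the sum functional
  let s : (C → ℂ) →ₗ[ℂ] ℂ :=
    { toFun := fun f => ∑ y, f y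
      map_add' := fun a b => by simp only [Pi.add_apply, Finset.sum_add_distrib]
      map_smul' := fun a b => by simp only [Pi.smul_apply, smul_eq_mul, Finset.mul_sum, RingHom.id_apply] }
  have hs : ∀ (g : Y) (v : Fin k → ℂ), s (f.toLinearMap (ρ g v)) = s (f.toLinearMap v) := by
    intro g v
    have h4 : f.toLinearMap (ρ g v) = permRep ℂ Y C g (f.toLinearMap v) :=
      Representation.IntertwiningMap.isIntertwining _ _ f g v
    rw [h4]
    show ∑ y, (f.toLinearMap v) (g⁻¹ • y) = ∑ y, (f.toLinearMap v) y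
    exact Equiv.sum_comp (MulAction.toPerm g⁻¹) (f.toLinearMap v)
  let A : Subrepresentation ρ :=
    { toSubmodule := LinearMap.ker (s.comp f.toLinearMap)
      apply_mem_toSubmodule := fun g v hv => by
        rw [LinearMap.mem_ker, LinearMap.comp_apply] at hv ⊢
        rw [hs, hv] }
  rintro _ ⟨v, rfl⟩
  rcases eq_bot_or_eq_top A with hA | hA
  · exfalso
    apply h1
    have h4 : LinearMap.ker (s.comp f.toLinearMap) = ⊥ := congrArg Subrepresentation.toSubmodule hA
    have h5 : ∀ x, ρ x = 1 := by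
      intro x
      apply LinearMap.ext
      intro v
      have h6 : ρ x v - v ∈ LinearMap.ker (s.comp f.toLinearMap) := by
        rw [LinearMap.mem_ker, LinearMap.comp_apply, map_sub, map_sub, hs, sub_self]
      rw [h4, Submodule.mem_bot, sub_eq_zero] at h6
      rw [h6]
      rfl
    have h7 := S0143.finrank_eq_one_of_forall_eq_one ρ h5
    funext x
    show LinearMap.trace ℂ _ (ρ x) = _
    rw [h5 x, LinearMap.trace_one, h7, Nat.cast_one]
  · have h4 : LinearMap.ker (s.comp f.toLinearMap) = ⊤ := congrArg Subrepresentation.toSubmodule hA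
    have h5 : v ∈ LinearMap.ker (s.comp f.toLinearMap) := by rw [h4]; exact Submodule.mem_top
    exact h5

/-- **A nontrivial constituent of `1_B^G` of degree not a power of `p`** (rank at least two). -/
theorem exists_constituent (S : Bd D Δ c) (hgen : D.U ≤ ⁅D.U, D.U⁆ ⊔ ⨆ i, D.X i)
    (hE : ∀ J : Set I, J.Nonempty → ∃ E : JDat D J, E.Q ≤ ⁅D.U, D.U⁆ ⊔ ⨆ i : (Jᶜ : Set I), D.X i)
    [IsSimpleGroup Y] (hnc : ¬ IsMulCommutative Y) (hUi : ¬ p ∣ D.U.index) {i j : I} (hij : i ≠ j) :
    ∃ χ : Y → ℂ, IsIrrCharacter Y χ ∧ χ ≠ (fun _ => 1) ∧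
      classInner (fun g : Y => (Nat.card (MulAction.fixedBy C g) : ℂ)) χ ≠ 0 ∧
      ∃ n : ℕ, χ 1 = n ∧ p ∣ n ∧ ∃ l : ℕ, l.Prime ∧ l ≠ p ∧ l ∣ n := by
  have hp := D.hp
  have hpf : Fact p.Prime := ⟨hp⟩
  -- the central element
  have hnil : Group.IsNilpotent ↥D.U := D.pU.isNilpotent
  have hQn : ((D.Q j).subgroupOf D.U).Normal := by
    refine ⟨fun u hu g => ?_⟩
    rw [Subgroup.mem_subgroupOf] at hu ⊢
    exact D.UQ j g g.2 u hu
  have hQ1 : (D.Q j).subgroupOf D.U ≠ ⊥ := by
    obtain ⟨x, hx, hx1⟩ := (Subgroup.bot_or_exists_ne_one (D.X i)).resolve_left (D.Xne i)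
    intro h
    have h1 : (⟨x, D.XU i hx⟩ : ↥D.U) ∈ (D.Q j).subgroupOf D.U := D.XQ i j hij hx
    rw [h, Subgroup.mem_bot] at h1
    exact hx1 (congrArg Subtype.val h1)
  obtain ⟨z, hz, hz1⟩ := (Subgroup.bot_or_exists_ne_one ((D.Q j).subgroupOf D.U ⊓ Subgroup.center ↥D.U)).resolve_left
    (Lib.NormalAbelian.normal_inf_center_ne_bot _ hQ1)
  obtain ⟨hzQ, hzc⟩ := Subgroup.mem_inf.1 hz
  rw [Subgroup.mem_subgroupOf] at hzQ
  have hzne : (z : Y) ≠ 1 := fun h => hz1 (Subtype.ext h)
  -- the class of `z` has size prime to `p`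
  have hcls : ¬ p ∣ (Subgroup.centralizer ({(z : Y)} : Set Y)).index := by
    intro h
    refine hUi (h.trans (Subgroup.index_dvd_of_le ?_))
    intro u hu
    rw [Subgroup.mem_centralizer_singleton_iff]
    have := Subgroup.mem_center_iff.1 hzc ⟨u, hu⟩
    exact congrArg Subtype.val this
  -- `z` fixes two chambers
  have hfix : 2 ≤ Nat.card (MulAction.fixedBy C (z : Y)) := by
    have h1 : c ∈ MulAction.fixedBy C (z : Y) := (S.B _).1 (D.U_le_B z.2)
    have h2 : D.n j • c ∈ MulAction.fixedBy C (z : Y) := by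
      show (z : Y) • D.n j • c = D.n j • c
      have h3 : ((D.n j)⁻¹ * z * D.n j) • c = c := (S.B _).1 (D.U_le_B (D.QU j (D.nQ' j _ hzQ)))
      conv_rhs => rw [← h3]
      simp only [smul_smul]
      congr 1
      group
    have hne : c ≠ D.n j • c := by
      intro h
      have h3 := S.n j
      rw [← h, Δ.δ_self] at h3
      have h4 := cs.length_simple j
      rw [← h3, cs.length_one] at h4
      exact absurd h4 (by norm_num)
    have : Nontrivial (MulAction.fixedBy C (z : Y)) := ⟨⟨c, h1⟩, ⟨_, h2⟩, fun h => hne (congrArg Subtype.val h)⟩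
    exact Finite.one_lt_card
  -- decompose the permutation character
  have := finite_irr (G := Y)
  have := Fintype.ofFinite (IrrCharacter Y)
  have hpc : IsCharacter Y (fun g : Y => (Nat.card (MulAction.fixedBy C g) : ℂ)) := by
    rw [permChar_eq]
    exact Cfsg.Agent.Characters.Core.isCharacter_of_rep _
  obtain ⟨m, hm⟩ := exists_nat_comb hpc
  have hmi : ∀ ψ : IrrCharacter Y, classInner (fun g : Y => (Nat.card (MulAction.fixedBy C g) : ℂ)) (ψ : Y → ℂ) =
      m ψ := fun ψ => by rw [hm, classInner_sum_nsmul_irr]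
  have h1irr : IsIrrCharacter Y (fun _ => (1 : ℂ)) := S0143.isIrrCharacter_one Y
  set o : IrrCharacter Y := ⟨_, h1irr⟩ with ho
  have hm1 : m o = 1 := by
    have htr : MulAction.IsPretransitive Y C := ⟨fun x y => by
      obtain ⟨a, rfl⟩ := S.trans x
      obtain ⟨b, rfl⟩ := S.trans y
      exact ⟨b * a⁻¹, by rw [smul_smul, inv_mul_cancel_right]⟩⟩
    have h2 := hmi o
    have h3 : classInner (fun g : Y => (Nat.card (MulAction.fixedBy C g) : ℂ)) (o : Y → ℂ) = 1 := by
      rw [classInner_def]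
      have h4 := MulAction.sum_card_fixedBy_eq_card_orbits_mul_card_group Y C
      have h5 : Fintype.card (Quotient (MulAction.orbitRel Y C)) = 1 := by
        rw [Fintype.card_eq_one_iff]
        refine ⟨Quotient.mk _ c, fun x => ?_⟩
        induction x using Quotient.inductionOn with
        | _ x => exact Quotient.sound (MulAction.orbitRel_apply.2 (MulAction.exists_smul_eq Y c x))
      rw [h5, one_mul] at h4
      have h6 : ∑ g : Y, (Nat.card (MulAction.fixedBy C g) : ℂ) * (starRingEnd ℂ) ((o : Y → ℂ) g) = Fintype.card Y := by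
        rw [← h4, Nat.cast_sum]
        refine Finset.sum_congr rfl fun g _ => ?_
        rw [Nat.card_eq_fintype_card]
        show _ * (starRingEnd ℂ) (1 : ℂ) = _
        rw [map_one, mul_one]
      rw [h6, Nat.card_eq_fintype_card, inv_mul_cancel₀]
      exact_mod_cast Fintype.card_ne_zero
    rw [h3] at h2
    exact_mod_cast h2.symm
  -- a nontrivial constituent not vanishing at `z`
  obtain ⟨ψ, hψo, hψm, hψz⟩ : ∃ ψ : IrrCharacter Y, ψ ≠ o ∧ m ψ ≠ 0 ∧ (ψ : Y → ℂ) z ≠ 0 := by
    by_contra hcon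
    push Not at hcon
    have h2 := congrFun hm (z : Y)
    rw [Finset.sum_apply, Finset.sum_eq_single o] at h2
    · rw [hm1, one_smul] at h2
      have h3 : (Nat.card (MulAction.fixedBy C (z : Y)) : ℂ) = 1 := h2
      have h4 : Nat.card (MulAction.fixedBy C (z : Y)) = 1 := by exact_mod_cast h3
      omega
    · intro ψ _ hψ
      rw [Pi.smul_apply]
      by_cases h3 : m ψ = 0
      · rw [h3, zero_smul]
      · rw [hcon ψ hψ h3, smul_zero]
    · intro h; exact absurd (Finset.mem_univ o) h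
  have hψ1 : (ψ : Y → ℂ) ≠ fun _ => 1 := fun h => hψo (Subtype.ext h)
  have hψin : classInner (fun g : Y => (Nat.card (MulAction.fixedBy C g) : ℂ)) (ψ : Y → ℂ) ≠ 0 := by
    rw [hmi]
    exact_mod_cast hψm
  obtain ⟨n, hn0, hn⟩ := isIrr_apply_one ψ.2
  have hpn := S.dvd_of_constituent hgen hE ψ.2 hψ1 hψin hn
  refine ⟨ψ, ψ.2, hψ1, hψin, n, hn, hpn, ?_⟩
  by_contra hcon
  push Not at hcon
  -- otherwise the degree is a power of `p`
  have hcop : Nat.Coprime n (Subgroup.centralizer ({(z : Y)} : Set Y)).index := by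
    refine Nat.Coprime.symm (Nat.coprime_of_dvd fun l hl h2 h3 => ?_)
    by_cases hlp : l = p
    · rw [hlp] at h2
      exact hcls h2
    · exact hcon l hl hlp h3
  obtain ⟨k, ρ, hρ, hρχ⟩ := ψ.2
  have h5 : finrank ℂ (Fin k → ℂ) = n := by
    have h6 : (finrank ℂ (Fin k → ℂ) : ℂ) = n := by rw [← hn, ← hρχ, Representation.char_one]
    exact_mod_cast h6
  rcases S0142.result ρ (z : Y) (by rw [h5]; exact hcop) with h | h
  · apply hψz
    rw [← hρχ]
    exact h
  · apply hψ1
    rw [← hρχ]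
    exact trivial_of_norm hnc hzne ρ h

end Bd

end Cfsg.Agent.H996.Deg
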