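import Mathlib
import Cfsg.Agent.H400.BlockDefect
import Cfsg.Agent.CharactersDeep.ModCongr
import Cfsg.Agent.Blocks.ExistsModular
import Cfsg.Agent.H996.DefectZero
import Cfsg.Agent.H615.DefZeroChar
import Cfsg.Agent.H996.Deg.Edge

/-!
# Characters of `p`-power degree, characters of `p`-defect zero and parabolic subgroups (helper996)

* `not_dvd_of_ppow` : in a simple group whose `p`-local subgroups have characteristic `p` a nonprincipal irreducible
  character of `p`-power degree has `p`-defect zero;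
* `no_fixed` : a representation of `p`-defect zero has no nonzero vector fixed by a subgroup `P ≥ U` meeting the
  `(B,N)`-condition (`P > B`).
-/

set_option autoImplicit false
set_option linter.unusedSectionVars false
set_option linter.unusedVariables false

namespace Cfsg.Agent.H996.Deg.PPow

open Cfsg Cfsg.Agent.Blocks.LocalRing Cfsg.Agent.H996.DefectZero

universe u v

section ppow

variable {G : Type u} [Group G] [Finite G] {p : ℕ} [Fact p.Prime]

/-- a central element of order a power of `p` of a Sylow subgroup -/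
theorem exists_central (hp : p ∣ Nat.card G) :
    ∃ z : G, z ≠ 1 ∧ (∃ k, orderOf z = p ^ k) ∧ ¬ p ∣ (Subgroup.centralizer ({z} : Set G)).index := by
  obtain ⟨P⟩ : Nonempty (Sylow p G) := inferInstance
  have hne : (P : Subgroup G) ≠ ⊥ := by
    intro h
    have h1 := P.dvd_card_of_dvd_card hp
    rw [h, Subgroup.card_bot] at h1
    exact (Fact.out : p.Prime).one_lt.ne' (Nat.dvd_one.1 h1)
  have : Nontrivial ↥(P : Subgroup G) := (Subgroup.nontrivial_iff_ne_bot _).2 hne
  have h2 : Nontrivial (Subgroup.center ↥(P : Subgroup G)) := P.isPGroup'.center_nontrivial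
  obtain ⟨z, hz⟩ := exists_ne (1 : Subgroup.center ↥(P : Subgroup G))
  refine ⟨((z : ↥(P : Subgroup G)) : G), ?_, ?_, ?_⟩
  · intro h
    exact hz (Subtype.ext (Subtype.ext h))
  · obtain ⟨k, hk⟩ := P.isPGroup' (z : ↥(P : Subgroup G))
    have h3 : ((z : ↥(P : Subgroup G)) : G) ^ p ^ k = 1 := by
      have := congrArg Subtype.val hk
      simpa using this
    obtain ⟨j, -, hj⟩ := (Nat.dvd_prime_pow (Fact.out : p.Prime)).1 (orderOf_dvd_of_pow_eq_one h3)
    exact ⟨j, hj⟩
  · intro h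
    have h3 : (P : Subgroup G) ≤ Subgroup.centralizer ({((z : ↥(P : Subgroup G)) : G)} : Set G) := by
      intro u hu
      rw [Subgroup.mem_centralizer_singleton_iff]
      have := Subgroup.mem_center_iff.1 z.2 ⟨u, hu⟩
      exact congrArg Subtype.val this
    exact P.not_dvd_index (h.trans (Subgroup.index_dvd_of_le h3))

theorem not_dvd_of_ppow [IsSimpleGroup G] (hnc : ¬ IsMulCommutative G)
    (hloc : ∀ K : Subgroup G, IsPGroup p K → K ≠ ⊥ →
      Subgroup.centralizer (pCore p ↥(Subgroup.normalizer (K : Set G)) : Set ↥(Subgroup.normalizer (K : Set G))) ≤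
        pCore p ↥(Subgroup.normalizer (K : Set G)))
    (χ : IrrCharacter G) (h1 : p ∣ charDegree (χ : G → ℂ)) (hpp : ∀ l, l.Prime → l ∣ charDegree (χ : G → ℂ) → l = p) :
    ¬ p ∣ Nat.card G / charDegree (χ : G → ℂ) := by
  have hp : p.Prime := Fact.out
  obtain ⟨hd1, hd2, hd3⟩ := S0914.degree_spec χ
  have hpG : p ∣ Nat.card G := h1.trans hd3
  obtain ⟨z, hz1, hzo, hcls⟩ := exists_central hpG
  -- `χ(z) = 0`
  have hχz : (χ : G → ℂ) z = 0 := by
    obtain ⟨n, ρ, hρ, e⟩ := χ.2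
    have hfr : Module.finrank ℂ (Fin n → ℂ) = charDegree (χ : G → ℂ) := by
      have h3 : (χ : G → ℂ) 1 = (Module.finrank ℂ (Fin n → ℂ) : ℂ) := by
        rw [← e]
        exact ρ.char_one
      have h4 : charDegree (χ : G → ℂ) = Module.finrank ℂ (Fin n → ℂ) := H670.PSing.charDegree_eq_of h3
      exact h4.symm
    have hcop : Nat.Coprime (Module.finrank ℂ (Fin n → ℂ)) (Subgroup.centralizer ({z} : Set G)).index := by
      rw [hfr]
      refine Nat.Coprime.symm (Nat.coprime_of_dvd fun l hl h2 h3 => ?_)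
      rw [hpp l hl h3] at h2
      exact hcls h2
    have : ρ.IsIrreducible := hρ
    rcases S0142.result ρ z hcop with h | h
    · rw [← e]; exact h
    · exfalso
      have h3 := trivial_of_norm hnc hz1 ρ h
      have h4 : (charDegree (χ : G → ℂ) : ℂ) = 1 := by
        rw [← hfr, ← ρ.char_one, h3]
      have h5 : charDegree (χ : G → ℂ) = 1 := by exact_mod_cast h4
      rw [h5] at h1
      exact hp.one_lt.ne' (Nat.dvd_one.1 h1)
  obtain ⟨M, hM⟩ := Blocks.ExistsModular.exists_isPModular hp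
  set B := blockOf M (χ : G → ℂ) with hB
  have hBB : IsPBlock M B := ⟨χ, rfl⟩
  have hχB : χ ∈ B := fun g => by
    rw [sub_self]; exact memLocalIdeal_zero hM
  have hle : sInf ((fun χ : IrrCharacter G => (charDegree (χ : G → ℂ)).factorization p) '' B) ≤
      (charDegree (χ : G → ℂ)).factorization p := Nat.sInf_le ⟨χ, hχB, rfl⟩
  have hfle : (charDegree (χ : G → ℂ)).factorization p ≤ (Nat.card G).factorization p :=
    (Nat.factorization_le_iff_dvd (by omega) Nat.card_pos.ne').2 hd3 p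
  rcases H400.BlockDefect.defect_of_local hloc hM hBB with h | h
  · -- defect zero
    rw [blockDefect] at h
    have h3 : (Nat.card G).factorization p ≤ (charDegree (χ : G → ℂ)).factorization p := by omega
    intro h4
    obtain ⟨c, hc⟩ := hd3
    rw [hc, Nat.mul_div_cancel_left _ (by omega)] at h4
    have h5 : p ^ ((Nat.card G).factorization p + 1) ∣ Nat.card G := by
      have h6 : p ^ (Nat.card G).factorization p ∣ charDegree (χ : G → ℂ) :=
        (pow_dvd_pow p h3).trans (Nat.ordProj_dvd _ _)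
      rw [pow_succ]
      conv_rhs => rw [hc]
      exact mul_dvd_mul h6 h4
    exact Nat.pow_succ_factorization_not_dvd Nat.card_pos.ne' hp h5
  · -- full defect
    exfalso
    rw [blockDefect] at h
    have h0 : 0 < (Nat.card G).factorization p := hp.factorization_pos_of_dvd Nat.card_pos.ne' hpG
    have h3 : sInf ((fun χ : IrrCharacter G => (charDegree (χ : G → ℂ)).factorization p) '' B) = 0 := by omega
    have hne : ((fun χ : IrrCharacter G => (charDegree (χ : G → ℂ)).factorization p) '' B).Nonempty :=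
      ⟨_, χ, hχB, rfl⟩
    obtain ⟨ψ, hψ, h4⟩ := Nat.sInf_mem hne
    rw [h3] at h4
    obtain ⟨hψ1, hψ2, hψ3⟩ := S0914.degree_spec ψ
    have h5 : ¬ p ∣ charDegree (ψ : G → ℂ) := by
      intro h6
      have := hp.factorization_pos_of_dvd (by omega) h6
      have h7 : (charDegree (ψ : G → ℂ)).factorization p = 0 := h4
      omega
    have h6 : MemLocalIdeal M (centralChar (χ : G → ℂ) z - centralChar (ψ : G → ℂ) z) := hψ z
    have h7 : centralChar (χ : G → ℂ) z = 0 := by
      rw [centralChar, hχz, mul_zero, zero_div]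
    rw [h7, zero_sub, memLocalIdeal_neg_iff] at h6
    -- `ψ(z) ≡ ψ(1)`
    have h8 : MemLocalIdeal M ((ψ : G → ℂ) z - (ψ : G → ℂ) 1) := by
      have h9 := CharactersDeep.ModCongr.memLocalIdeal_character_sub hM ψ.2 z z
        ⟨1, mul_one z, Commute.one_right z, hzo, by
          rw [orderOf_one]
          exact hp.one_lt.not_ge ∘ Nat.le_of_dvd one_pos⟩
      rwa [inv_mul_cancel] at h9
    have h10 : (ψ : G → ℂ) z = (ψ : G → ℂ) z - (ψ : G → ℂ) 1 + (charDegree (ψ : G → ℂ) : ℂ) := by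
      rw [← hψ1]; ring
    have h11 : ¬ MemLocalIdeal M ((ψ : G → ℂ) z) := by
      intro h12
      have h13 : MemLocalIdeal M ((charDegree (ψ : G → ℂ) : ℕ) : ℂ) := by
        have h14 := memLocalIdeal_sub hM h12 h8
        have e : (ψ : G → ℂ) z - ((ψ : G → ℂ) z - (ψ : G → ℂ) 1) = ((charDegree (ψ : G → ℂ) : ℕ) : ℂ) := by
          rw [← hψ1]; ring
        rwa [e] at h14
      exact h5 ((memLocalIdeal_natCast_iff hM _).1 h13)
    have h15 : MemLocalRing M ((ψ : G → ℂ) z) :=
      memLocalRing_of_isIntegral hM (Blocks.Central.isIntegral_irr ψ.2 z)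
    have h16 : MemLocalIdeal M (((Subgroup.centralizer ({z} : Set G)).index : ℂ) * (ψ : G → ℂ) z) := by
      have h17 := memLocalIdeal_mul_right hM h6 (memLocalRing_natCast hM (charDegree (ψ : G → ℂ)))
      have e : centralChar (ψ : G → ℂ) z * ((charDegree (ψ : G → ℂ) : ℕ) : ℂ) =
          ((Subgroup.centralizer ({z} : Set G)).index : ℂ) * (ψ : G → ℂ) z := by
        rw [centralChar, ← hψ1, div_mul_cancel₀]
        exact Blocks.Basic.irr_one_ne_zero ψ.2
      rwa [e] at h17
    rcases (memLocalIdeal_mul_iff hM (memLocalRing_natCast hM _) h15).1 h16 with h17 | h17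
    · exact hcls ((memLocalIdeal_natCast_iff hM _).1 h17)
    · exact h11 h17

end ppow

section fixed

variable {G : Type u} [Group G] [Finite G] {p : ℕ} [Fact p.Prime] {V : Type v} [AddCommGroup V] [Module ℂ V]
  [FiniteDimensional ℂ V]

/-- **`p`-defect zero: no vectors fixed by a proper overgroup of `B`** -/
theorem no_fixed (ρ : Representation ℂ G V) (hρ : ρ.IsIrreducible)
    (hd : ¬ p ∣ Nat.card G / Module.finrank ℂ V) (U T : Subgroup G) (hU : IsPGroup p U)
    (hT : ∀ t ∈ T, ∀ u ∈ U, t⁻¹ * u * t ∈ U) (hTc : ∀ s ∈ T, ∀ t ∈ T, s * t = t * s) (n₀ : G)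
    (hcell : ∀ g : G, (∃ u ∈ U, ∃ t ∈ T, ∃ u' ∈ U, g = u * n₀ * t * u') ∨ ∃ z ∈ U, z ≠ 1 ∧ g⁻¹ * z * g ∈ U)
    (P : Subgroup G) (hUP : U ≤ P) {m : G} (hm : m ∈ P)
    (hz : ∃ z ∈ U, z ≠ 1 ∧ (n₀ * m⁻¹)⁻¹ * z * (n₀ * m⁻¹) ∈ U) {w : V} (hw : ∀ g ∈ P, ρ g w = w) : w = 0 := by
  classical
  have hp : p.Prime := Fact.out
  have : Fintype G := Fintype.ofFinite G
  by_contra hw0
  obtain ⟨M, hM⟩ := Blocks.ExistsModular.exists_isPModular hp
  -- the character
  set χ : IrrCharacter G := ⟨ρ.character, PermutationGroups.PermChar.isIrr_of_rep ρ hρ⟩ with hχ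
  obtain ⟨hd1, hd2, hd3⟩ := S0914.degree_spec χ
  have hfr : charDegree (χ : G → ℂ) = Module.finrank ℂ V := H670.PSing.charDegree_eq_of ρ.char_one
  have hNN : H615.DefZeroChar.NN χ = Nat.card G / Module.finrank ℂ V := by
    rw [H615.DefZeroChar.NN, hfr]
  rw [← hNN] at hd
  have hBχ : blockOf M (χ : G → ℂ) = {χ} := (S0914.result p M hM χ).1 hd
  obtain ⟨g, -, hg, -⟩ := S0906.result p M hM {χ} ⟨χ, hBχ.symm⟩
  have hNN0 : (H615.DefZeroChar.NN χ : ℂ) ≠ 0 := by
    intro h
    apply hd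
    have : H615.DefZeroChar.NN χ = 0 := by exact_mod_cast h
    rw [this]; exact dvd_zero _
  have hval : ¬ MemLocalIdeal M ((χ : G → ℂ) g⁻¹) := by
    intro h3
    apply hg
    have h4 : blockCoeff {χ} g = (χ : G → ℂ) g⁻¹ * ((H615.DefZeroChar.NN χ : ℕ) : ℂ)⁻¹ := by
      rw [Blocks.Basic.blockCoeff_def, finsum_mem_singleton, Blocks.Orthogonality.irr_apply_inv χ.2,
        ← H615.DefZeroChar.one_mul_NN χ]
      have := H615.DefZeroChar.one_ne χ
      field_simp
    rw [h4]
    refine memLocalIdeal_mul_right hM h3 (memLocalRing_inv (memLocalRing_natCast hM _) ?_)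
    rw [memLocalIdeal_natCast_iff hM]
    exact hd
  have hc : (Nat.card G : ℂ) * ρ.character g⁻¹ / (Module.finrank ℂ V : ℂ) =
      ((H615.DefZeroChar.NN χ : ℕ) : ℂ) * (χ : G → ℂ) g⁻¹ := by
    rw [← H615.DefZeroChar.one_mul_NN χ]
    have h1 : (χ : G → ℂ) 1 = (Module.finrank ℂ V : ℂ) := ρ.char_one
    have h2 : (Module.finrank ℂ V : ℂ) ≠ 0 := by rw [← h1]; exact H615.DefZeroChar.one_ne χ
    rw [h1, mul_assoc, mul_div_cancel_left₀ _ h2]
  have hint : MemLocalRing M ((χ : G → ℂ) g⁻¹) :=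
    memLocalRing_of_isIntegral hM (Blocks.Central.isIntegral_irr χ.2 _)
  have k1 : MemLocalRing M ((Nat.card G : ℂ) * ρ.character g⁻¹ / (Module.finrank ℂ V : ℂ)) := by
    rw [hc]; exact memLocalRing_mul hM (memLocalRing_natCast hM _) hint
  have k2 : ¬ MemLocalIdeal M ((Nat.card G : ℂ) * ρ.character g⁻¹ / (Module.finrank ℂ V : ℂ)) := by
    rw [hc, memLocalIdeal_mul_iff hM (memLocalRing_natCast hM _) hint, memLocalIdeal_natCast_iff hM]
    rintro (h | h)
    · exact hd h
    · exact hval h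
  obtain ⟨x, hx0, hxU, -, hline, ⟨β, hβ1, hβ2, hβ⟩, hsig⟩ := core hM ρ hρ k1 k2 U T hU hT hTc n₀ hcell
    ⟨w, hw0, fun u hu => hw u (hUP hu)⟩
  obtain ⟨c, hc'⟩ := hline w fun u hu => hw u (hUP hu)
  have hc0 : c ≠ 0 := by
    rintro rfl
    rw [zero_smul] at hc'
    exact hw0 hc'
  have hxm : ρ m x = x := by
    have h1 := hw m hm
    rw [hc', map_smul] at h1
    exact smul_right_injective V hc0 h1
  have h3 : ρ n₀ x = ρ (n₀ * m⁻¹) x := by
    conv_rhs => rw [← hxm]
    rw [← Module.End.mul_apply, ← map_mul]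
    congr 2
    group
  obtain ⟨τ, hτ, h4⟩ := hsig (n₀ * m⁻¹)
  rw [← h3, hβ, smul_smul] at h4
  have h5 : β = (Nat.card (Rg U (n₀ * m⁻¹)) : ℂ) * τ := smul_left_injective ℂ hx0 h4
  apply hβ2
  rw [h5]
  refine memLocalIdeal_mul_right hM ((memLocalIdeal_natCast_iff hM _).2 ?_) hτ
  obtain ⟨z, hzU, hz1, hzg⟩ := hz
  have h6 : Nontrivial (Rg U (n₀ * m⁻¹)) := ⟨⟨⟨⟨z, hzU⟩, hzg⟩, 1, fun h => hz1 (by
    have := congrArg (fun a : Rg U (n₀ * m⁻¹) => ((a : U) : G)) h
    simpa using this)⟩⟩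
  have h7 : IsPGroup p (Rg U (n₀ * m⁻¹)) := hU.to_subgroup _
  obtain ⟨n, hn, h8⟩ := (IsPGroup.nontrivial_iff_card h7).1 h6
  rw [h8]
  exact dvd_pow_self p hn.ne'

end fixed

end Cfsg.Agent.H996.Deg.PPow
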