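import Mathlib
import Cfsg.Agent.Tits.Generic

/-!
# The number of `⟨s⟩`-`⟨s⟩` double cosets of a Coxeter group with a `B₃` subdiagram is even (helper996)
-/

set_option autoImplicit false
set_option linter.unusedSectionVars false
set_option linter.unusedVariables false

namespace Cfsg.Agent.H996.Deg.CoxPar

universe u

/-- an involution and a fixed point free involution on its fixed points -/
theorem even_card {Q : Type u} [Finite Q] (f g : Q → Q) (hf : ∀ x, f (f x) = x) (hg : ∀ x, g (g x) = x)
    (hfg : ∀ x, f (g x) = g (f x)) (h : ∀ x, f x = x → g x = x → False) : Even (Nat.card Q) := by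
  classical
  have : Fact (Nat.Prime 2) := ⟨Nat.prime_two⟩
  have key : ∀ {α : Type u} [Finite α] (k : α → α), (∀ x, k (k x) = x) →
      Nat.card α ≡ Nat.card {x // k x = x} [MOD 2] := by
    intro α _ k hk
    have := Fintype.ofFinite α
    have h1 : (show Function.End α from k) ^ 2 ^ 1 = 1 := by
      rw [pow_one, pow_two]
      funext x
      exact hk x
    have h2 := Equiv.Perm.card_fixedPoints_modEq (p := 2) (n := 1) h1
    rw [Nat.card_eq_fintype_card]
    refine h2.trans ?_
    rw [← Nat.card_eq_fintype_card]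
    exact Nat.ModEq.refl _
  have h1 := key f hf
  have h2 := key (α := {x // f x = x}) (fun x => ⟨g x, by rw [hfg, x.2]⟩) (fun x => Subtype.ext (hg x))
  have h3 : Nat.card {x : {x // f x = x} // (⟨g x, by rw [hfg, x.2]⟩ : {x // f x = x}) = x} = 0 := by
    rw [Nat.card_eq_zero]
    exact Or.inl ⟨fun x => h x.1 x.1.2 (congrArg Subtype.val x.2)⟩
  replace h2 : Nat.card {x // f x = x} ≡ 0 [MOD 2] := h2.trans (by rw [h3])
  rw [Nat.even_iff]
  exact h1.trans h2

variable {W : Type u} [Group W]

/-- double cosets of `⟨s⟩` -/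
abbrev DC (s : W) : Type u := DoubleCoset.Quotient ((Subgroup.zpowers s : Subgroup W) : Set W) (Subgroup.zpowers s : Set W)

theorem mem_zp {s a : W} (hs : s * s = 1) (ha : a ∈ Subgroup.zpowers s) : a = 1 ∨ a = s := by
  obtain ⟨k, rfl⟩ := Subgroup.mem_zpowers_iff.1 ha
  rcases Int.even_or_odd' k with ⟨m, rfl | rfl⟩
  · left
    rw [zpow_mul, show s ^ (2 : ℤ) = 1 by rw [zpow_two]; exact hs, one_zpow]
  · right
    rw [zpow_add, zpow_mul, show s ^ (2 : ℤ) = 1 by rw [zpow_two]; exact hs, one_zpow, one_mul, zpow_one]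

/-- left multiplication by an element commuting with `s` -/
def lm (s t : W) (c : t * s = s * t) : DC s → DC s :=
  Quotient.map (t * ·) (by
    intro x y hxy
    obtain ⟨a, ha, b, hb, e⟩ := DoubleCoset.rel_iff.1 hxy
    refine DoubleCoset.rel_iff.2 ⟨a, ha, b, hb, ?_⟩
    have h1 : t * a = a * t := by
      obtain ⟨k, rfl⟩ := Subgroup.mem_zpowers_iff.1 ha
      exact (Commute.zpow_right (show Commute t s from c) k).eq
    show t * y = a * (t * x) * b
    rw [e]
    calc t * (a * x * b) = (t * a) * x * b := by group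
      _ = _ := by rw [h1]; group)

theorem even_dc [Finite W] (ε : W →* Multiplicative (ZMod 2)) {s t₁ t₂ : W} (hs : s * s = 1) (h1 : t₁ * t₁ = 1)
    (h2 : t₂ * t₂ = 1) (c1 : t₁ * s = s * t₁) (c2 : t₂ * s = s * t₂) (c12 : t₁ * t₂ = t₂ * t₁) (n1 : t₁ ≠ s)
    (n2 : t₂ ≠ s) (n12 : t₁ ≠ t₂) (es : ε s = Multiplicative.ofAdd 1) (e1 : ε t₁ = Multiplicative.ofAdd 1)
    (e2 : ε t₂ = Multiplicative.ofAdd 1) : Even (Nat.card (DC s)) := by
  have hfin : Finite (DC s) := Quotient.finite _
  refine even_card (lm s t₁ c1) (lm s t₂ c2) ?_ ?_ ?_ ?_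
  · intro x
    induction x using Quotient.inductionOn with
    | _ x =>
      show (Quotient.mk _ (t₁ * (t₁ * x)) : DC s) = Quotient.mk _ x
      rw [← mul_assoc, h1, one_mul]
  · intro x
    induction x using Quotient.inductionOn with
    | _ x =>
      show (Quotient.mk _ (t₂ * (t₂ * x)) : DC s) = Quotient.mk _ x
      rw [← mul_assoc, h2, one_mul]
  · intro x
    induction x using Quotient.inductionOn with
    | _ x =>
      show (Quotient.mk _ (t₁ * (t₂ * x)) : DC s) = Quotient.mk _ (t₂ * (t₁ * x))
      rw [← mul_assoc, c12, mul_assoc]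
  · intro x
    induction x using Quotient.inductionOn with
    | _ w =>
      intro k1 k2
      have key : ∀ t : W, ε t = Multiplicative.ofAdd 1 → t ≠ s →
          (Quotient.mk _ (t * w) : DC s) = Quotient.mk _ w → t = w * s * w⁻¹ := by
        intro t et nt hk
        obtain ⟨a, ha, b, hb, e⟩ := DoubleCoset.rel_iff.1 (Quotient.exact hk)
        have e' : t = a⁻¹ * w * b⁻¹ * w⁻¹ := by
          calc t = a⁻¹ * (a * (t * w) * b) * b⁻¹ * w⁻¹ := by group
            _ = a⁻¹ * w * b⁻¹ * w⁻¹ := by rw [← e]
        have hε := congrArg ε e'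
        rw [map_mul, map_mul, map_mul, map_inv, map_inv, map_inv, et, mul_comm _ (ε w), mul_assoc, mul_assoc,
          mul_comm (ε w), mul_assoc, mul_assoc, inv_mul_cancel, mul_one] at hε
        rcases mem_zp hs ha with ha' | ha' <;> rcases mem_zp hs hb with hb' | hb'
        · exfalso
          rw [ha', hb', map_one ε] at hε
          revert hε
          decide
        · have hb'' : b⁻¹ = s := by rw [hb']; exact inv_eq_of_mul_eq_one_left hs
          rw [e', hb'', ha']; group
        · exfalso
          apply nt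
          have ha'' : a⁻¹ = s := by rw [ha']; exact inv_eq_of_mul_eq_one_left hs
          rw [e', ha'', hb']; group
        · exfalso
          rw [ha', hb', es] at hε
          revert hε
          decide
      exact n12 ((key t₁ e1 n1 k1).trans (key t₂ e2 n2 k2).symm)

open CoxeterSystem

/-- **a `B₃` subdiagram** `a - b = c` -/
theorem even_of_B3 [Finite W] {I : Type*} [Finite I] {M : CoxeterMatrix I} (cs : CoxeterSystem M W) {a b c : I}
    (hab : M a b = 3) (hbc : M b c = 4) (hac : M a c = 2) : Even (Nat.card (DC (cs.simple c))) := by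
  set x := cs.simple a with hx
  set y := cs.simple b with hy
  set s := cs.simple c with hs
  have xx : x * x = 1 := cs.simple_mul_simple_self a
  have yy : y * y = 1 := cs.simple_mul_simple_self b
  have ss : s * s = 1 := cs.simple_mul_simple_self c
  have xi : x⁻¹ = x := inv_eq_of_mul_eq_one_left xx
  have yi : y⁻¹ = y := inv_eq_of_mul_eq_one_left yy
  have si : s⁻¹ = s := inv_eq_of_mul_eq_one_left ss
  have h3 : (x * y) ^ 3 = 1 := by rw [← hab]; exact cs.simple_mul_simple_pow a b
  have h4 : (y * s) ^ 4 = 1 := by rw [← hbc]; exact cs.simple_mul_simple_pow b c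
  have h2 : (x * s) ^ 2 = 1 := by rw [← hac]; exact cs.simple_mul_simple_pow a c
  have xs : x * s = s * x := by
    have : x * s = (x * s)⁻¹ := by rw [eq_inv_iff_mul_eq_one, ← pow_two, h2]
    rw [this, mul_inv_rev, xi, si]
  have xyx : x * y * x = y * x * y := by
    have h5 : x * y * x = (y * x * y)⁻¹ := by
      rw [eq_inv_iff_mul_eq_one]
      calc x * y * x * (y * x * y) = (x * y) ^ 3 := by rw [pow_succ, pow_two]; group
        _ = 1 := h3
    rw [h5, mul_inv_rev, mul_inv_rev, xi, yi, mul_assoc]
  have ysys : y * s * y * s = s * y * s * y := by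
    have h5 : y * s * y * s = (y * s * y * s)⁻¹ := by
      rw [eq_inv_iff_mul_eq_one]
      calc y * s * y * s * (y * s * y * s) = (y * s) ^ 4 := by
            rw [show (4 : ℕ) = 2 + 2 by norm_num, pow_add, pow_two]; group
        _ = 1 := h4
    conv_lhs => rw [h5]
    rw [mul_inv_rev, mul_inv_rev, mul_inv_rev, si, yi]
    group
  set t₂ := y * s * y with ht₂
  set t₁ := x * t₂ * x with ht₁
  have c2 : t₂ * s = s * t₂ := by rw [ht₂, ysys]; group
  have hns : t₂ ≠ s := by
    intro h
    have h5 : (y * s) ^ 2 = 1 := by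
      rw [pow_two, show y * s * (y * s) = (y * s * y) * s by group, ← ht₂, h, ss]
    have h6 : orderOf (y * s) = 4 := by rw [← hbc]; exact Tits.Generic.orderOf_eq cs b c
    have h7 := orderOf_dvd_of_pow_eq_one h5
    rw [h6] at h7
    exact absurd h7 (by norm_num)
  have c1 : t₁ * s = s * t₁ := by
    calc t₁ * s = x * t₂ * (x * s) := by rw [ht₁]; group
      _ = x * (t₂ * s) * x := by rw [xs]; group
      _ = (x * s) * t₂ * x := by rw [c2]; group
      _ = s * t₁ := by rw [xs, ht₁]; group
  -- `y` commutes with `t₁`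
  have cy : y * t₁ = t₁ * y := by
    have e1 : y * t₁ * y = t₁ := by
      calc y * t₁ * y = (y * x * y) * s * (y * x * y) := by rw [ht₁, ht₂]; group
        _ = (x * y * x) * s * (x * y * x) := by rw [xyx]
        _ = x * y * (x * s) * x * y * x := by group
        _ = x * y * s * (x * x) * y * x := by rw [xs]; group
        _ = t₁ := by rw [xx, ht₁, ht₂]; group
    calc y * t₁ = (y * t₁ * y) * y := by rw [mul_assoc, mul_assoc, yy, mul_one]
      _ = t₁ * y := by rw [e1]
  have c12 : t₁ * t₂ = t₂ * t₁ := by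
    calc t₁ * t₂ = (t₁ * y) * s * y := by rw [ht₂]; group
      _ = y * (t₁ * s) * y := by rw [← cy]; group
      _ = y * s * (t₁ * y) := by rw [c1]; group
      _ = t₂ * t₁ := by rw [← cy, ht₂]; group
  have n12 : t₁ ≠ t₂ := by
    intro h
    have e1 : y * t₁ * y = s := by
      rw [h, ht₂]
      calc y * (y * s * y) * y = (y * y) * s * (y * y) := by group
        _ = s := by rw [yy]; group
    have e2 : t₁ = s := by
      rw [← e1, cy, mul_assoc, yy, mul_one]
    exact hns (h.symm.trans e2)
  have n1 : t₁ ≠ s := by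
    intro h
    apply hns
    have e1 : x * t₁ * x = t₂ := by
      rw [ht₁]
      calc x * (x * t₂ * x) * x = (x * x) * t₂ * (x * x) := by group
        _ = t₂ := by rw [xx]; group
    rw [← e1, h, xs, mul_assoc, xx, mul_one]
  have e0 : ∀ i, cs.lengthParity (cs.simple i) = Multiplicative.ofAdd 1 := fun i => cs.lengthParity_simple i
  have e2 : cs.lengthParity t₂ = Multiplicative.ofAdd 1 := by
    rw [ht₂, map_mul, map_mul, hy, hs, e0, e0]
    decide
  have e1 : cs.lengthParity t₁ = Multiplicative.ofAdd 1 := by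
    rw [ht₁, map_mul, map_mul, e2, hx, e0]
    decide
  refine even_dc cs.lengthParity ss ?_ ?_ c1 c2 c12 n1 hns n12 (e0 c) e1 e2
  · rw [ht₁, ht₂]
    calc x * (y * s * y) * x * (x * (y * s * y) * x) = x * y * s * y * (x * x) * y * s * y * x := by group
      _ = x * y * s * (y * y) * s * y * x := by rw [xx]; group
      _ = x * y * (s * s) * y * x := by rw [yy]; group
      _ = x * (y * y) * x := by rw [ss]; group
      _ = 1 := by rw [yy, mul_one, xx]
  · rw [ht₂]
    calc y * s * y * (y * s * y) = y * s * (y * y) * s * y := by group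
      _ = y * (s * s) * y := by rw [yy]; group
      _ = 1 := by rw [ss, mul_one, yy]

end Cfsg.Agent.H996.Deg.CoxPar
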