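import Mathlib
import Cfsg.Agent.H996.Deg.CoxPar
import Cfsg.Agent.H996.Deg.Harm
import Cfsg.Agent.H464.PermIrr
import Cfsg.Agent.H996.Deg.Edge

/-!
# The norm of `1_P^G`, `P` a minimal parabolic subgroup; a parity argument (helper996)
-/

set_option autoImplicit false
set_option linter.unusedSectionVars false
set_option linter.unusedVariables false

namespace Cfsg.Agent.H996.Deg.Bd

open Module Cfsg Cfsg.Agent.Tits.Core Cfsg.Agent.Tits.Core.Bldg Cfsg.Agent.H249 MulAction
  Cfsg.Agent.H464.PermIrr Cfsg.Agent.H996.Deg.CoxPar Cfsg.Agent.Characters.Core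

universe u v

variable {I : Type*} [DecidableEq I] [Fintype I] {W : Type v} {Y : Type u} {C : Type*} [Group W] [Group Y] {M : CoxeterMatrix I}
  {cs : CoxeterSystem M W} {p : ℕ} [MulAction Y C] {D : Dat Y I p} {Δ : Bldg cs C} {c : C}

/-- the class of a distance -/
def cls (cs : CoxeterSystem M W) (i : I) (w : W) : DC (cs.simple i) := Quotient.mk _ w

theorem cls_eq {i : I} {w w' : W} : cls cs i w = cls cs i w' ↔
    ∃ a ∈ Subgroup.zpowers (cs.simple i), ∃ b ∈ Subgroup.zpowers (cs.simple i), w' = a * w * b :=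
  ⟨fun h => DoubleCoset.rel_iff.1 (Quotient.exact h), fun h => Quotient.sound (DoubleCoset.rel_iff.2 h)⟩

theorem cls_mul {i : I} (w : W) : cls cs i (w * cs.simple i) = cls cs i w :=
  cls_eq.2 ⟨1, one_mem _, cs.simple i, Subgroup.mem_zpowers _, by
    rw [one_mul, mul_assoc, cs.simple_mul_simple_self, mul_one]⟩

theorem cls_mul' {i : I} (w : W) : cls cs i (cs.simple i * w) = cls cs i w :=
  cls_eq.2 ⟨cs.simple i, Subgroup.mem_zpowers _, 1, one_mem _, by
    rw [mul_one, ← mul_assoc, cs.simple_mul_simple_self, one_mul]⟩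

theorem dr {i : I} {x y y' : C} (h : Δ.δ y y' = 1 ∨ Δ.δ y y' = cs.simple i) :
    cls cs i (Δ.δ x y') = cls cs i (Δ.δ x y) := by
  rcases h with h | h
  · rw [(Δ.eq_one y y').1 h]
  · rcases Δ.step x y y' i h with h1 | h1
    · rw [h1, cls_mul]
    · rw [h1]

theorem dl {i : I} {x x' y : C} (h : Δ.δ x x' = 1 ∨ Δ.δ x x' = cs.simple i) :
    cls cs i (Δ.δ x' y) = cls cs i (Δ.δ x y) := by
  rcases h with h | h
  · rw [(Δ.eq_one x x').1 h]
  · rw [Δ.symm y x', Δ.symm y x]
    rcases Δ.step y x x' i h with h1 | h1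
    · rw [h1, mul_inv_rev, cs.inv_simple, cls_mul']
    · rw [h1]

variable (S : Bd D Δ c)
include S

theorem δ_mul (a g : Y) : Δ.δ (a • c) ((a * g) • c) = Δ.δ c (g • c) := by
  rw [mul_smul, S.iso]

/-- invariant of a pair of cosets of `P_i` -/
noncomputable def inv₂ (S : Bd D Δ c) (i : I) (z : (Y ⧸ D.P i) × (Y ⧸ D.P i)) : DC (cs.simple i) :=
  cls cs i (Δ.δ (z.1.out • c) (z.2.out • c))

theorem inv₂_mk (i : I) (a b : Y) :
    S.inv₂ i ((a : Y ⧸ D.P i), (b : Y ⧸ D.P i)) = cls cs i (Δ.δ (a • c) (b • c)) := by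
  have h : ∀ a : Y, ∃ g ∈ D.P i, ((a : Y ⧸ D.P i)).out = a * g := by
    intro a
    refine ⟨a⁻¹ * ((a : Y ⧸ D.P i)).out, ?_, by group⟩
    rw [← QuotientGroup.eq, QuotientGroup.out_eq']
  obtain ⟨g, hg, e1⟩ := h a
  obtain ⟨k, hk, e2⟩ := h b
  show cls cs i (Δ.δ (((a : Y ⧸ D.P i)).out • c) (((b : Y ⧸ D.P i)).out • c)) = _
  rw [e1, e2]
  rw [dl (x := a • c) (by rw [S.δ_mul]; exact S.P_stab hg), dr (y := b • c) (by rw [S.δ_mul]; exact S.P_stab hk)]

theorem card_orbits (i : I) :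
    Nat.card (orbitRel.Quotient Y ((Y ⧸ D.P i) × (Y ⧸ D.P i))) = Nat.card (DC (cs.simple i)) := by
  have hinv : ∀ (g : Y) z, S.inv₂ i (g • z) = S.inv₂ i z := by
    rintro g ⟨x, y⟩
    induction x using QuotientGroup.induction_on with
    | _ a =>
    induction y using QuotientGroup.induction_on with
    | _ b =>
    show S.inv₂ i (((g * a : Y) : Y ⧸ D.P i), ((g * b : Y) : Y ⧸ D.P i)) = _
    rw [S.inv₂_mk, S.inv₂_mk, mul_smul, mul_smul, S.iso]
  refine Nat.card_eq_of_bijective (Quotient.lift (s := orbitRel Y _) (S.inv₂ i) (by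
    rintro a b ⟨g, rfl⟩
    exact hinv g b)) ⟨?_, ?_⟩
  · intro q q'
    induction q using Quotient.inductionOn with | _ z => ?_
    induction q' using Quotient.inductionOn with | _ z' => ?_
    intro h
    replace h : S.inv₂ i z = S.inv₂ i z' := h
    obtain ⟨x, y⟩ := z
    obtain ⟨x', y'⟩ := z'
    induction x using QuotientGroup.induction_on with
    | _ a =>
    induction y using QuotientGroup.induction_on with
    | _ b =>
    induction x' using QuotientGroup.induction_on with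
    | _ a' =>
    induction y' using QuotientGroup.induction_on with
    | _ b' =>
    rw [S.inv₂_mk, S.inv₂_mk, cls_eq] at h
    obtain ⟨u, hu, v, hv, e⟩ := h
    have ss := cs.simple_mul_simple_self i
    -- move `b`
    obtain ⟨k, hk, h1⟩ : ∃ k ∈ D.P i, Δ.δ (a • c) ((b * k) • c) = Δ.δ (a • c) (b • c) * v := by
      rcases mem_zp ss hv with rfl | hv'
      · exact ⟨1, one_mem _, by rw [mul_one, mul_one]⟩
      · obtain ⟨z, hz, hz'⟩ := Δ.exists_step (a • c) (b • c) i
        obtain ⟨g, rfl⟩ := S.trans z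
        refine ⟨b⁻¹ * g, S.mem_P_of ?_, ?_⟩
        · rw [← hz, ← S.iso b, ← mul_smul, mul_inv_cancel_left]
        · rw [mul_inv_cancel_left, hz', hv']
    obtain ⟨l, hl, h2⟩ : ∃ l ∈ D.P i, Δ.δ ((a * l) • c) ((b * k) • c) = u * Δ.δ (a • c) ((b * k) • c) := by
      rcases mem_zp ss hu with rfl | hu'
      · exact ⟨1, one_mem _, by rw [mul_one, one_mul]⟩
      · obtain ⟨z, hz, hz'⟩ := Δ.exists_step ((b * k) • c) (a • c) i
        obtain ⟨g, rfl⟩ := S.trans z
        refine ⟨a⁻¹ * g, S.mem_P_of ?_, ?_⟩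
        · rw [← hz, ← S.iso a, ← mul_smul, mul_inv_cancel_left]
        · rw [mul_inv_cancel_left, Δ.symm ((b * k) • c), hz', mul_inv_rev, cs.inv_simple, ← Δ.symm, hu']
    have h3 : Δ.δ ((a * l) • c) ((b * k) • c) = Δ.δ (a' • c) (b' • c) := by
      rw [h2, h1, e, mul_assoc]
    obtain ⟨g, hg1, hg2⟩ := S.tr _ _ _ _ h3.symm
    apply Quotient.sound
    refine ⟨g, ?_⟩
    have h4 : ∀ {α β m : Y}, m ∈ D.P i → g • β • c = (α * m) • c → ((g * β : Y) : Y ⧸ D.P i) = (α : Y ⧸ D.P i) := by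
      intro α β m hm h5
      rw [eq_comm, QuotientGroup.eq]
      have h6 : (α * m)⁻¹ * (g * β) ∈ D.B := by
        rw [S.B, mul_smul, mul_smul, h5, ← mul_smul, inv_mul_cancel, one_smul]
      have h7 := mul_mem hm (D.B_le_P i h6)
      have e7 : m * ((α * m)⁻¹ * (g * β)) = α⁻¹ * (g * β) := by group
      rwa [e7] at h7
    exact Prod.ext (h4 hl hg1) (h4 hk hg2)
  · intro q
    induction q using Quotient.inductionOn with | _ w => ?_
    obtain ⟨y, hy⟩ := Δ.exists_δ c w
    obtain ⟨g, rfl⟩ := S.trans y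
    refine ⟨Quotient.mk _ (((1 : Y) : Y ⧸ D.P i), ((g : Y) : Y ⧸ D.P i)), ?_⟩
    show S.inv₂ i (((1 : Y) : Y ⧸ D.P i), ((g : Y) : Y ⧸ D.P i)) = _
    rw [S.inv₂_mk, one_smul, hy]
    rfl

end Cfsg.Agent.H996.Deg.Bd

namespace Cfsg.Agent.H996.Deg.Parity

open Module Cfsg MulAction Cfsg.Agent.H464.PermIrr Cfsg.Agent.Characters.Core

/-- **Parity**: a transitive permutation character of odd degree and even rank has a constituent of even degree. -/
theorem exists_even {G : Type*} [Group G] [Fintype G] (X : Type*) [MulAction G X] [Finite X]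
    (hodd : ¬ 2 ∣ Nat.card X) (hev : Even (Nat.card (orbitRel.Quotient G (X × X)))) :
    ∃ χ : IrrCharacter G, classInner (pc G X) (χ : G → ℂ) ≠ 0 ∧ 2 ∣ charDegree (χ : G → ℂ) := by
  classical
  have := finite_irr (G := G)
  have := Fintype.ofFinite (IrrCharacter G)
  obtain ⟨m, hm⟩ := exists_nat_comb (isCharacter_pc G X)
  have hmi : ∀ ψ : IrrCharacter G, classInner (pc G X) (ψ : G → ℂ) = m ψ := fun ψ => by
    rw [hm, classInner_sum_nsmul_irr]
  by_contra hcon
  push Not at hcon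
  have h1 : (Nat.card X : ℂ) = ∑ ψ, (m ψ : ℂ) * charDegree (ψ : G → ℂ) := by
    rw [← pc_one (G := G) X, hm, Finset.sum_apply]
    refine Finset.sum_congr rfl fun ψ _ => ?_
    rw [Pi.smul_apply, nsmul_eq_mul, Blocks.Basic.irr_one_eq_charDegree ψ.2]
  have h1' : Nat.card X = ∑ ψ, m ψ * charDegree (ψ : G → ℂ) := by exact_mod_cast h1
  have h2 : (Nat.card (orbitRel.Quotient G (X × X)) : ℂ) = ∑ ψ, (m ψ : ℂ) * m ψ := by
    rw [← classInner_pc G X X]
    have e : pc G X = ∑ ψ : IrrCharacter G, (m ψ : ℂ) • (ψ : G → ℂ) := by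
      rw [hm]
      simp only [Nat.cast_smul_eq_nsmul]
    rw [e, classInner_sum_smul_sum_smul]
    refine Finset.sum_congr rfl fun ψ _ => ?_
    rw [Complex.conj_natCast]
  have h2' : Nat.card (orbitRel.Quotient G (X × X)) = ∑ ψ, m ψ * m ψ := by exact_mod_cast h2
  apply hodd
  have h3 : (Nat.card X : ZMod 2) = (Nat.card (orbitRel.Quotient G (X × X)) : ZMod 2) := by
    rw [h1', h2']
    push_cast
    refine Finset.sum_congr rfl fun ψ _ => ?_
    rcases Nat.eq_zero_or_pos (m ψ) with h0 | h0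
    · rw [h0, Nat.cast_zero, zero_mul, zero_mul]
    · have h4 := hcon ψ (by rw [hmi]; exact_mod_cast h0.ne')
      have h5 : (charDegree (ψ : G → ℂ) : ZMod 2) = 1 := by
        obtain ⟨k, hk⟩ : Odd (charDegree (ψ : G → ℂ)) := by
          rw [← Nat.not_even_iff_odd, even_iff_two_dvd]
          exact h4
        rw [hk]
        push_cast
        rw [show (2 : ZMod 2) = 0 from rfl, zero_mul, zero_add]
      have h6 : ∀ x : ZMod 2, x * x = x := by decide
      rw [h5, mul_one, h6]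
  rw [(ZMod.natCast_eq_zero_iff _ 2).2 (even_iff_two_dvd.1 hev)] at h3
  exact (ZMod.natCast_eq_zero_iff _ 2).1 h3

end Cfsg.Agent.H996.Deg.Parity
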