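import Mathlib
import Cfsg.Agent.H996.Deg.Parity
import Cfsg.Agent.H996.Deg.PPow
import Cfsg.Agent.H671.H5Facts

/-!
# An irreducible character of even degree, not a power of two, by parity (helper996)
-/

set_option autoImplicit false
set_option linter.unusedSectionVars false
set_option linter.unusedVariables false

namespace Cfsg.Agent.H996.Deg.Bd

open Module Cfsg Cfsg.Agent.Tits.Core Cfsg.Agent.Tits.Core.Bldg Cfsg.Agent.Tits.Exchange Cfsg.Agent.H249 MulAction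
  Cfsg.Agent.H464.PermIrr Cfsg.Agent.H996.Deg.CoxPar Cfsg.Agent.Characters.Core Cfsg.Agent.PermutationGroups.PermChar

universe u v

variable {I : Type*} [DecidableEq I] [Fintype I] {W : Type v} {Y : Type u} {C : Type*} [Group W] [Group Y]
  {M : CoxeterMatrix I} {cs : CoxeterSystem M W} {p : ℕ} [MulAction Y C] {D : Dat Y I p} {Δ : Bldg cs C} {c : C}

theorem mem_U_of {b : Y} (hb : b ∈ D.B) {k : ℕ} (hk : b ^ p ^ k = 1) : b ∈ D.U := by
  obtain ⟨t, ht, u, hu, rfl⟩ := D.mem_B.1 hb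
  have key : ∀ n : ℕ, ∃ v ∈ D.U, (t * u) ^ n = t ^ n * v := by
    intro n
    induction n with
    | zero => exact ⟨1, one_mem _, by rw [pow_zero, pow_zero, mul_one]⟩
    | succ n ih =>
      obtain ⟨v, hv, e⟩ := ih
      refine ⟨t⁻¹ * v * t * u, mul_mem ?_ hu, ?_⟩
      · have := D.TU t⁻¹ (inv_mem ht) v hv
        rwa [inv_inv] at this
      · rw [pow_succ, e, pow_succ]
        group
  obtain ⟨v, hv, e⟩ := key (p ^ k)
  rw [hk] at e
  have h1 : t ^ p ^ k ∈ D.U := by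
    have : t ^ p ^ k = v⁻¹ := by rw [← mul_eq_one_iff_eq_inv]; exact e.symm
    rw [this]
    exact inv_mem hv
  obtain ⟨l, hl⟩ := D.pU ⟨_, h1⟩
  have h2 : t ^ p ^ (k + l) = 1 := by
    have := congrArg Subtype.val hl
    rw [pow_add, pow_mul]
    exact this
  have h3 : t = 1 := by
    rw [← orderOf_eq_one_iff]
    have h4 : orderOf t ∣ Nat.card D.T := by
      rw [← Subgroup.orderOf_mk t ht]
      exact orderOf_dvd_natCard _
    exact Nat.eq_one_of_dvd_coprimes (D.cop.pow_right (k + l)) h4 (orderOf_dvd_of_pow_eq_one h2)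
  rw [h3, one_mul]
  exact hu

theorem eq_w0 [Finite W] (cs : CoxeterSystem M W) {w : W} (h : ∀ i, cs.length (cs.simple i * w) < cs.length w) :
    w = w0 cs := by
  have h1 : w * w0 cs = 1 := by
    by_contra h2
    obtain ⟨i, hi⟩ := cs.exists_leftDescent_of_ne_one h2
    have h3 : cs.length (cs.simple i * (w * w0 cs)) < cs.length (w * w0 cs) := hi
    have h4 := length_mul_w0 cs w
    have h5 := length_mul_w0 cs (cs.simple i * w)
    rw [← mul_assoc] at h3
    have := h i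
    omega
  rw [mul_eq_one_iff_eq_inv.1 h1, w0_inv]

variable (S : Bd D Δ c)
include S

/-- **The cells**: `g` is in the big cell or `U ∩ gUg⁻¹ ≠ 1` -/
theorem cell [Finite W] [Nonempty I] (g : Y) :
    Δ.δ c (g • c) = w0 cs ∨ ∃ z ∈ D.U, z ≠ 1 ∧ g⁻¹ * z * g ∈ D.U := by
  obtain ⟨u, hu, k, hk, b, hb, rfl⟩ := D.bruhat g
  have hg : Δ.δ c ((u * k * b) • c) = Δ.δ c (k • c) := by
    rw [mul_smul, (S.B b).1 hb, mul_smul, S.δ_B (D.U_le_B hu)]
  rw [hg]
  by_cases hall : ∀ i, ¬ ∀ x ∈ D.X i, k⁻¹ * x * k ∈ D.T ⊔ D.U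
  · left
    refine eq_w0 cs fun i => ?_
    have h1 := (D.NX k hk i).resolve_left (hall i)
    obtain ⟨x, hx, hx1⟩ := (Subgroup.bot_or_exists_ne_one (D.X i)).resolve_left (D.Xne i)
    set y := D.n i * x * (D.n i)⁻¹ with hy
    have hyc : y • k • c = k • c := by
      have := (S.B _).1 (h1 x hx)
      rw [mul_smul, mul_smul, inv_smul_eq_iff] at this
      exact this
    -- `y` does not fix `c`
    have hyc' : y • c ≠ c := by
      intro h2
      apply hx1
      refine D.nX i x hx ?_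
      have h3 : y ∈ D.B := (S.B y).2 h2
      have e3 : (D.n i)⁻¹ * x * D.n i = (D.n i * D.n i)⁻¹ * y * (D.n i * D.n i) := by rw [hy]; group
      rw [e3]
      exact mul_mem (mul_mem (inv_mem (D.T_le_B (D.sq i))) h3) (D.T_le_B (D.sq i))
    have hyP : y ∈ D.P i := mul_mem (mul_mem (D.n_mem_P i) (D.B_le_P i (D.U_le_B (D.XU i hx)))) (inv_mem (D.n_mem_P i))
    have h2 : Δ.δ c (y • c) = cs.simple i := by
      refine (S.P_stab hyP).resolve_left fun h => hyc' ?_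
      exact ((Δ.eq_one _ _).1 h).symm
    have h3 : Δ.δ (y • c) (k • c) = Δ.δ c (k • c) := by
      conv_lhs => rw [← hyc]
      exact S.iso y c (k • c)
    -- lengths
    by_contra hlt
    have hlt' : cs.length (Δ.δ c (k • c)) < cs.length (cs.simple i * Δ.δ c (k • c)) := by
      have := cs.length_simple_mul_ne (Δ.δ c (k • c)) i
      omega
    have h4 : Δ.δ (k • c) (y • c) = Δ.δ (k • c) c * cs.simple i := by
      refine Δ.step_lt (k • c) c (y • c) i h2 ?_
      rw [Δ.symm c (k • c), ← cs.length_inv, ← cs.length_inv ((Δ.δ c (k • c))⁻¹ * cs.simple i), inv_inv, mul_inv_rev,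
        inv_inv, cs.inv_simple]
      exact hlt'
    rw [Δ.symm (y • c), h3, Δ.symm c (k • c)] at h4
    have h5 : cs.simple i = 1 := by
      rw [eq_comm, mul_eq_left] at h4
      exact h4
    have h6 := cs.length_simple i
    rw [h5, cs.length_one] at h6
    exact absurd h6 (by norm_num)
  · right
    push Not at hall
    obtain ⟨i, hi⟩ := hall
    obtain ⟨x, hx, hx1⟩ := (Subgroup.bot_or_exists_ne_one (D.X i)).resolve_left (D.Xne i)
    refine ⟨u * x * u⁻¹, mul_mem (mul_mem hu (D.XU i hx)) (inv_mem hu), ?_, ?_⟩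
    · intro h
      exact hx1 (by rw [← conj_eq_one_iff (a := u)]; exact h)
    · have h1 : k⁻¹ * x * k ∈ D.B := hi x hx
      have h2 : k⁻¹ * x * k ∈ D.U := by
        obtain ⟨l, hl⟩ := D.pU ⟨x, D.XU i hx⟩
        have hl' : x ^ p ^ l = 1 := congrArg Subtype.val hl
        refine mem_U_of h1 (k := l) ?_
        have e : k⁻¹ * x * k = k⁻¹ * x * (k⁻¹)⁻¹ := by rw [inv_inv]
        rw [e, conj_pow, hl', mul_one, mul_inv_cancel]
      have e : (u * k * b)⁻¹ * (u * x * u⁻¹) * (u * k * b) = b⁻¹ * (k⁻¹ * x * k) * (b⁻¹)⁻¹ := by group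
      rw [e]
      exact D.BU _ (inv_mem hb) _ h2

theorem exists_n0 [Finite W] (i : I) :
    ∃ n₀ ∈ D.N, Δ.δ c (n₀ • c) = w0 cs ∧ Δ.δ c ((n₀ * (D.n i)⁻¹) • c) ≠ w0 cs := by
  -- `w' = w₀ s_i`
  have h1 := length_w0_mul cs (cs.simple i)
  rw [cs.length_simple] at h1
  obtain ⟨y, hy⟩ := Δ.exists_δ c (w0 cs * cs.simple i)
  obtain ⟨g, rfl⟩ := S.trans y
  obtain ⟨u, hu, k, hk, b, hb, rfl⟩ := D.bruhat g
  have hg : Δ.δ c ((u * k * b) • c) = Δ.δ c (k • c) := by
    rw [mul_smul, (S.B b).1 hb, mul_smul, S.δ_B (D.U_le_B hu)]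
  rw [hg] at hy
  refine ⟨k * D.n i, mul_mem hk (D.nN i), ?_, ?_⟩
  · have h2 : Δ.δ (k • c) ((k * D.n i) • c) = cs.simple i := by
      rw [mul_smul, S.iso, S.n]
    have h3 := Δ.step_lt c (k • c) ((k * D.n i) • c) i h2 (by
      rw [hy, mul_assoc, cs.simple_mul_simple_self, mul_one]
      omega)
    rw [h3, hy, mul_assoc, cs.simple_mul_simple_self, mul_one]
  · rw [mul_inv_cancel_right, hy]
    intro h
    rw [h] at h1
    omega

theorem big [Finite W] {n₀ : Y} (hn : n₀ ∈ D.N) (h : Δ.δ c (n₀ • c) = w0 cs) {g : Y}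
    (hg : Δ.δ c (g • c) = w0 cs) : ∃ u ∈ D.U, ∃ t ∈ D.T, ∃ u' ∈ D.U, g = u * n₀ * t * u' := by
  obtain ⟨b, hb1, hb2⟩ := S.tr c (n₀ • c) c (g • c) (by rw [h, hg])
  have hb : b ∈ D.B := (S.B b).2 hb1
  have h2 : (b * n₀)⁻¹ * g ∈ D.B := by
    rw [S.B, mul_smul, ← hb2, smul_smul b, inv_smul_smul]
  obtain ⟨t₁, ht₁, u₁, hu₁, e1⟩ := D.mem_B.1 hb
  obtain ⟨t₂, ht₂, u₂, hu₂, e2⟩ := D.mem_B.1 h2
  refine ⟨t₁ * u₁ * t₁⁻¹, D.TU _ ht₁ _ hu₁, n₀⁻¹ * t₁ * n₀ * t₂, mul_mem ?_ ht₂, u₂, hu₂, ?_⟩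
  · have := D.NT n₀⁻¹ (inv_mem hn) t₁ ht₁
    rwa [inv_inv] at this
  · have h3 : g = b * n₀ * ((b * n₀)⁻¹ * g) := by group
    rw [h3, e2, e1]
    group

omit S in
/-- a constituent of the permutation character on `G ⧸ P` has a vector fixed by `P` -/
theorem _root_.Cfsg.Agent.H996.Deg.exists_fixed {G : Type*} [Group G] [Fintype G] (P : Subgroup G) {n : ℕ}
    (ρ : Representation ℂ G (Fin n → ℂ)) (hin : classInner (pc G (G ⧸ P)) ρ.character ≠ 0) :
    ∃ w : Fin n → ℂ, w ≠ 0 ∧ ∀ g ∈ P, ρ g w = w := by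
  classical
  have : Fintype (G ⧸ P) := Fintype.ofFinite _
  have e : pc G (G ⧸ P) = fun g : G => (Nat.card (MulAction.fixedBy (G ⧸ P) g) : ℂ) := rfl
  rw [e, classInner_permChar] at hin
  have h2 : finrank ℂ (ρ.IntertwiningMap (permRep ℂ G (G ⧸ P))) ≠ 0 := by exact_mod_cast hin
  obtain ⟨f, hf⟩ : ∃ f : Representation.IntertwiningMap ρ (permRep ℂ G (G ⧸ P)), f ≠ 0 := by
    have : Nontrivial (Representation.IntertwiningMap ρ (permRep ℂ G (G ⧸ P))) :=
      Module.nontrivial_of_finrank_pos (R := ℂ) (Nat.pos_of_ne_zero h2)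
    exact exists_ne 0
  have hfg : ∀ (g : G) (v : Fin n → ℂ), f.toLinearMap (ρ g v) = permRep ℂ G (G ⧸ P) g (f.toLinearMap v) :=
    fun g v => Representation.IntertwiningMap.isIntertwining _ _ f g v
  obtain ⟨v, hv⟩ : ∃ v, f.toLinearMap v ≠ 0 := by
    by_contra h
    push Not at h
    apply hf
    ext1
    exact LinearMap.ext h
  obtain ⟨x, hx⟩ := Function.ne_iff.1 hv
  obtain ⟨a, rfl⟩ := QuotientGroup.mk_surjective x
  set v' := ρ a⁻¹ v with hv'
  have h3 : (f.toLinearMap v') ((1 : G) : G ⧸ P) ≠ 0 := by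
    rw [hv', hfg]
    show (f.toLinearMap v) ((a⁻¹)⁻¹ • ((1 : G) : G ⧸ P)) ≠ 0
    rw [inv_inv, MulAction.Quotient.smul_coe, smul_eq_mul, mul_one]
    exact hx
  refine ⟨∑ g : P, ρ (g : G) v', ?_, ?_⟩
  · intro h0
    have h4 : (f.toLinearMap (∑ g : P, ρ (g : G) v')) ((1 : G) : G ⧸ P) = Fintype.card P * (f.toLinearMap v') ((1 : G) : G ⧸ P) := by
      rw [map_sum, Finset.sum_apply]
      have h5 : ∀ g : P, (f.toLinearMap (ρ (g : G) v')) ((1 : G) : G ⧸ P) = (f.toLinearMap v') ((1 : G) : G ⧸ P) := by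
        intro g
        rw [hfg]
        show (f.toLinearMap v') ((g : G)⁻¹ • ((1 : G) : G ⧸ P)) = _
        have h6 : (g : G)⁻¹ • ((1 : G) : G ⧸ P) = ((1 : G) : G ⧸ P) := by
          rw [MulAction.Quotient.smul_coe, smul_eq_mul, mul_one]
          exact QuotientGroup.eq.2 (by rw [inv_inv, mul_one]; exact g.2)
        rw [h6]
      simp only [h5, Finset.sum_const, Finset.card_univ, nsmul_eq_mul]
    rw [h0, map_zero] at h4
    have h5 : (Fintype.card P : ℂ) ≠ 0 := by exact_mod_cast Fintype.card_ne_zero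
    exact (mul_ne_zero h5 h3) h4.symm
  · intro g hg
    rw [map_sum]
    have h4 : ∀ x : P, ρ g (ρ (x : G) v') = ρ (((⟨g, hg⟩ * x : P) : G)) v' := by
      intro x
      show _ = ρ (g * x) v'
      rw [map_mul]
      rfl
    simp only [h4]
    exact Equiv.sum_comp (Equiv.mulLeft (⟨g, hg⟩ : P)) (fun x : P => ρ (x : G) v')

/-- **Parity**: a constituent of the permutation character on a minimal parabolic subgroup of a simple group in
characteristic two whose degree is even and not a power of two -/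
theorem exists_even_char [Finite W] [Fintype Y] [IsSimpleGroup Y] (hnc : ¬ IsMulCommutative Y) (hp2 : p = 2)
    (hT : ∀ s ∈ D.T, ∀ t ∈ D.T, s * t = t * s)
    (hloc : ∀ K : Subgroup Y, IsPGroup 2 K → K ≠ ⊥ →
      Subgroup.centralizer (pCore 2 ↥(Subgroup.normalizer (K : Set Y)) : Set ↥(Subgroup.normalizer (K : Set Y))) ≤
        pCore 2 ↥(Subgroup.normalizer (K : Set Y)))
    {i : I} (hodd : ¬ 2 ∣ (D.P i).index) (hev : Even (Nat.card (DC (cs.simple i)))) :
    ∃ χ : IrrCharacter Y, 2 ∣ charDegree (χ : Y → ℂ) ∧ ∃ l, l.Prime ∧ l ≠ 2 ∧ l ∣ charDegree (χ : Y → ℂ) := by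
  have : Fact (Nat.Prime 2) := ⟨Nat.prime_two⟩
  have : Nonempty I := ⟨i⟩
  obtain ⟨χ, h1, h2⟩ := Parity.exists_even (G := Y) (Y ⧸ D.P i) (by rwa [← Subgroup.index]) (by rwa [S.card_orbits i])
  refine ⟨χ, h2, ?_⟩
  by_contra hcon
  push Not at hcon
  have h3 := PPow.not_dvd_of_ppow (p := 2) hnc hloc χ h2 (fun l hl hd => by
    by_contra hne
    exact hcon l hl hne hd)
  obtain ⟨n, ρ, hρ, e⟩ := χ.2
  rw [← e] at h1
  obtain ⟨w, hw0, hw⟩ := exists_fixed (D.P i) ρ h1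
  obtain ⟨n₀, hn₀, hw1, hw2⟩ := S.exists_n0 i
  refine hw0 (PPow.no_fixed (p := 2) ρ hρ ?_ D.U D.T ?_ ?_ hT n₀ ?_ (D.P i) (D.U_le_B.trans (D.B_le_P i)) (D.n_mem_P i)
    ((S.cell _).resolve_left hw2) hw)
  · have h4 : charDegree (χ : Y → ℂ) = Module.finrank ℂ (Fin n → ℂ) := by
      rw [← e]
      exact H670.PSing.charDegree_eq_of ρ.char_one
    rwa [← h4]
  · subst hp2; exact D.pU
  · intro t ht u hu
    have := D.TU t⁻¹ (inv_mem ht) u hu
    rwa [inv_inv] at this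
  · intro g
    rcases S.cell g with h | h
    · exact Or.inl (S.big hn₀ hw1 h)
    · exact Or.inr h

end Cfsg.Agent.H996.Deg.Bd
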