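import Mathlib
import Cfsg.Agent.Tits.Gate
import Cfsg.Agent.Tits.Exchange

/-!
# The Hecke algebra of a finite building acting on the functions on the chambers (helper996)
-/

set_option autoImplicit false
set_option linter.unusedSectionVars false
set_option linter.unusedVariables false

namespace Cfsg.Agent.H996.Deg.Hk

open Cfsg.Agent.Tits.Core Cfsg.Agent.Tits.Core.Bldg Classical

variable {I W C : Type*} [Group W] {M : CoxeterMatrix I} {cs : CoxeterSystem M W} (Δ : Bldg cs C) [Fintype C]

/-- the adjacency matrix of the distance `w` -/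
noncomputable def T (w : W) : Matrix C C ℂ := Matrix.of fun x y => if Δ.δ x y = w then 1 else 0

theorem T_apply (w : W) (x y : C) : T Δ w x y = if Δ.δ x y = w then 1 else 0 := rfl

theorem T_one : T Δ 1 = 1 := by
  ext x y
  rw [T_apply, Matrix.one_apply]
  simp only [Δ.eq_one]

theorem trace_T {w : W} (hw : w ≠ 1) : (T Δ w).trace = 0 := by
  rw [Matrix.trace]
  refine Finset.sum_eq_zero fun x _ => ?_
  rw [Matrix.diag_apply, T_apply, Δ.δ_self, if_neg (Ne.symm hw)]

theorem T_mul {w : W} {i : I} (h : cs.length w < cs.length (w * cs.simple i)) :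
    T Δ w * T Δ (cs.simple i) = T Δ (w * cs.simple i) := by
  ext x z
  rw [Matrix.mul_apply, T_apply]
  have key : ∀ y, T Δ w x y * T Δ (cs.simple i) y z = if Δ.δ x y = w ∧ Δ.δ y z = cs.simple i then 1 else 0 := by
    intro y
    rw [T_apply, T_apply]
    by_cases h1 : Δ.δ x y = w
    · by_cases h2 : Δ.δ y z = cs.simple i
      · simp [h1, h2]
      · simp [h2]
    · simp [h1]
  rw [Finset.sum_congr rfl fun y _ => key y]
  by_cases h1 : Δ.δ x z = w * cs.simple i
  · rw [if_pos h1]
    obtain ⟨y, hy1, hy2⟩ := Δ.exists_step x z i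
    have hy : Δ.δ x y = w ∧ Δ.δ y z = cs.simple i := by
      refine ⟨by rw [hy2, h1, cs.simple_mul_simple_cancel_right], ?_⟩
      rw [Δ.symm z y, hy1, cs.inv_simple]
    rw [Finset.sum_eq_single y]
    · rw [if_pos hy]
    · intro y' _ hne
      rw [if_neg]
      rintro ⟨h2, h3⟩
      have h4 : Δ.δ y y' ≠ 1 := fun h4 => hne ((Δ.eq_one _ _).1 h4).symm
      have h5 : Δ.δ z y' = cs.simple i := by rw [Δ.symm y' z, h3, cs.inv_simple]
      have h6 : Δ.δ y y' = cs.simple i := by
        rcases Δ.step y z y' i h5 with h6 | h6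
        · rw [hy.2, cs.simple_mul_simple_self] at h6
          exact absurd h6 h4
        · rw [h6, hy.2]
      have h7 := Δ.step_lt x y y' i h6 (by rw [hy.1]; exact h)
      rw [hy.1, h2] at h7
      exact absurd (congrArg cs.length h7) h.ne
    · exact fun h => absurd (Finset.mem_univ _) h
  · rw [if_neg h1]
    refine Finset.sum_eq_zero fun y _ => ?_
    rw [if_neg]
    rintro ⟨h2, h3⟩
    apply h1
    rw [Δ.step_lt x y z i h3 (by rw [h2]; exact h), h2]

/-- **The quadratic relation** -/
theorem T_sq {i : I} {q : ℕ} (hq : ∀ x, Nat.card {y // Δ.δ x y = cs.simple i} = q) :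
    T Δ (cs.simple i) * T Δ (cs.simple i) = (q : ℂ) • (1 : Matrix C C ℂ) + ((q : ℂ) - 1) • T Δ (cs.simple i) := by
  ext x z
  rw [Matrix.mul_apply, Matrix.add_apply, Matrix.smul_apply, Matrix.smul_apply, T_apply]
  have key : ∀ y, T Δ (cs.simple i) x y * T Δ (cs.simple i) y z =
      if Δ.δ x y = cs.simple i ∧ Δ.δ y z = cs.simple i then 1 else 0 := by
    intro y
    rw [T_apply, T_apply]
    by_cases h1 : Δ.δ x y = cs.simple i
    · by_cases h2 : Δ.δ y z = cs.simple i
      · simp [h1, h2]
      · simp [h2]
    · simp [h1]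
  rw [Finset.sum_congr rfl fun y _ => key y, Finset.sum_boole]
  have hs1 : cs.simple i ≠ 1 := by
    intro h
    have := cs.length_simple i
    rw [h, cs.length_one] at this
    exact absurd this (by norm_num)
  have hsym : ∀ {a b : C}, Δ.δ a b = cs.simple i → Δ.δ b a = cs.simple i := fun {a b} h => by
    rw [Δ.symm a b, h, cs.inv_simple]
  have hc : ∀ x, ((Finset.univ.filter fun y => Δ.δ x y = cs.simple i).card : ℂ) = q := by
    intro x
    rw [← hq x, Nat.card_eq_fintype_card, Fintype.card_subtype]
  by_cases h1 : x = z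
  · subst h1
    rw [Matrix.one_apply_eq, Δ.δ_self, if_neg (Ne.symm hs1), smul_zero, add_zero, smul_eq_mul, mul_one, ← hc x]
    congr 2
    refine Finset.filter_congr fun y _ => ?_
    exact ⟨fun h => h.1, fun h => ⟨h, hsym h⟩⟩
  · rw [Matrix.one_apply_ne h1, smul_zero, zero_add]
    by_cases h2 : Δ.δ x z = cs.simple i
    · rw [if_pos h2, smul_eq_mul, mul_one, ← hc x]
      have h3 : (Finset.univ.filter fun y => Δ.δ x y = cs.simple i ∧ Δ.δ y z = cs.simple i) =
          (Finset.univ.filter fun y => Δ.δ x y = cs.simple i).erase z := by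
        ext y
        simp only [Finset.mem_filter, Finset.mem_univ, true_and, Finset.mem_erase]
        constructor
        · rintro ⟨h3, h4⟩
          refine ⟨?_, h3⟩
          rintro rfl
          rw [Δ.δ_self] at h4
          exact hs1 h4.symm
        · rintro ⟨h3, h4⟩
          refine ⟨h4, ?_⟩
          rcases Δ.step y x z i h2 with h5 | h5
          · rw [hsym h4, cs.simple_mul_simple_self] at h5
            exact absurd ((Δ.eq_one _ _).1 h5) h3
          · rw [h5, hsym h4]
      rw [h3, Finset.card_erase_of_mem (by simp [h2]), Nat.cast_sub]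
      · rw [Nat.cast_one]
      · exact Finset.card_pos.2 ⟨z, by simp [h2]⟩
    · rw [if_neg h2, smul_zero]
      have h3 : (Finset.univ.filter fun y => Δ.δ x y = cs.simple i ∧ Δ.δ y z = cs.simple i) = ∅ := by
        ext y
        simp only [Finset.mem_filter, Finset.mem_univ, true_and, Finset.notMem_empty, iff_false, not_and]
        intro h3 h4
        rcases Δ.step x y z i h4 with h5 | h5
        · rw [h3, cs.simple_mul_simple_self] at h5
          exact h1 ((Δ.eq_one _ _).1 h5)
        · exact h2 (by rw [h5, h3])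
      rw [h3, Finset.card_empty, Nat.cast_zero]

end Cfsg.Agent.H996.Deg.Hk
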