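import Mathlib
import Cfsg.Agent.H464.PermIrr
import Cfsg.Agent.PermutationGroups.PermChar
import Cfsg.Agent.Characters.Core
import Cfsg.Agent.Blocks.Basic
import Cfsg.Prelude.Def_DegreeGraph

/-!
# Degrees of the constituents of a permutation character from idempotents of the centraliser algebra (helper996)

`G` acts on the finite set `X` with `r` orbits on `X × X`; `Q j` (`j : J`, `|J| = r`) nonzero idempotent matrices invariant
under `G` with sum `1`. Then every `Q j` affords an irreducible character, of degree the trace of `Q j`.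
-/

set_option autoImplicit false
set_option linter.unusedSectionVars false
set_option linter.unusedVariables false

namespace Cfsg.Agent.H996.Deg.IrrRank

open Module Cfsg MulAction Cfsg.Agent.H464.PermIrr Cfsg.Agent.Characters.Core Cfsg.Agent.PermutationGroups.PermChar

variable {G X : Type*} [Group G] [Fintype X] [DecidableEq X] [MulAction G X]

/-- invariant matrices -/
def Inv (G : Type*) {X : Type*} [Group G] [MulAction G X] (Q : Matrix X X ℂ) : Prop :=
  ∀ (g : G) (x y : X), Q (g • x) (g • y) = Q x y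

theorem Inv.mul {P Q : Matrix X X ℂ} (hP : Inv G P) (hQ : Inv G Q) : Inv G (P * Q) := by
  intro g x y
  rw [Matrix.mul_apply, Matrix.mul_apply, ← Equiv.sum_comp (MulAction.toPerm g)]
  refine Finset.sum_congr rfl fun z _ => ?_
  rw [MulAction.toPerm_apply, hP, hQ]

omit [Fintype X] [DecidableEq X] in
theorem Inv.add {P Q : Matrix X X ℂ} (hP : Inv G P) (hQ : Inv G Q) : Inv G (P + Q) := fun g x y => by
  rw [Matrix.add_apply, Matrix.add_apply, hP, hQ]

omit [Fintype X] [DecidableEq X] in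
theorem Inv.sub {P Q : Matrix X X ℂ} (hP : Inv G P) (hQ : Inv G Q) : Inv G (P - Q) := fun g x y => by
  rw [Matrix.sub_apply, Matrix.sub_apply, hP, hQ]

omit [Fintype X] [DecidableEq X] in
theorem Inv.smul {P : Matrix X X ℂ} (c : ℂ) (hP : Inv G P) : Inv G (c • P) := fun g x y => by
  rw [Matrix.smul_apply, Matrix.smul_apply, hP]

omit [Fintype X] in
theorem Inv.one : Inv G (1 : Matrix X X ℂ) := fun g x y => by
  rw [Matrix.one_apply, Matrix.one_apply]
  simp only [smul_left_cancel_iff]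

omit [DecidableEq X] in
theorem comm_perm {Q : Matrix X X ℂ} (hQ : Inv G Q) (g : G) (f : X → ℂ) :
    Q.mulVec (permRep ℂ G X g f) = permRep ℂ G X g (Q.mulVec f) := by
  funext x
  rw [permRep_apply, Matrix.mulVec, Matrix.mulVec, dotProduct, dotProduct, ← Equiv.sum_comp (MulAction.toPerm g)]
  refine Finset.sum_congr rfl fun z _ => ?_
  rw [MulAction.toPerm_apply, permRep_apply, inv_smul_smul, ← hQ g (g⁻¹ • x) z, smul_inv_smul]

/-- the character afforded by an idempotent -/
noncomputable def ch (G : Type*) [Group G] [MulAction G X] (Q : Matrix X X ℂ) (g : G) : ℂ :=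
  LinearMap.trace ℂ (X → ℂ) (Matrix.toLin' Q ∘ₗ permRep ℂ G X g)

theorem isCharacter_ch {Q : Matrix X X ℂ} (hQ : Inv G Q) (h2 : Q * Q = Q) : IsCharacter G (ch G Q) := by
  have hidem : ∀ f ∈ LinearMap.range (Matrix.toLin' Q), Matrix.toLin' Q f = f := by
    rintro _ ⟨f, rfl⟩
    rw [← LinearMap.comp_apply, ← Matrix.toLin'_mul, h2]
  let A : Subrepresentation (permRep ℂ G X) :=
    { toSubmodule := LinearMap.range (Matrix.toLin' Q)
      apply_mem_toSubmodule := by
        rintro g _ ⟨f, rfl⟩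
        refine ⟨permRep ℂ G X g f, ?_⟩
        rw [Matrix.toLin'_apply, Matrix.toLin'_apply, comm_perm hQ] }
  have h3 : ch G Q = A.toRepresentation.character := by
    funext g
    have h4 : ∀ f : X → ℂ, (Matrix.toLin' Q ∘ₗ permRep ℂ G X g) f ∈ LinearMap.range (Matrix.toLin' Q) :=
      fun f => ⟨_, rfl⟩
    have h5 := LinearMap.trace_restrict_eq_of_forall_mem (LinearMap.range (Matrix.toLin' Q))
      (Matrix.toLin' Q ∘ₗ permRep ℂ G X g) h4
    rw [ch, ← h5]
    show _ = LinearMap.trace ℂ _ (A.toRepresentation g)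
    congr 1
    ext1 ⟨f, hf⟩
    apply Subtype.ext
    show Matrix.toLin' Q (permRep ℂ G X g f) = permRep ℂ G X g f
    exact hidem _ (A.apply_mem_toSubmodule g hf)
  rw [h3]
  exact Characters.Core.isCharacter_of_rep _

theorem ch_one (Q : Matrix X X ℂ) : ch G Q 1 = Q.trace := by
  rw [ch, map_one, Module.End.one_eq_id, LinearMap.comp_id, Matrix.trace_toLin'_eq]

theorem sum_ch {J : Type*} [Fintype J] (Q : J → Matrix X X ℂ) (h : ∑ j, Q j = 1) :
    pc G X = ∑ j, ch G (Q j) := by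
  funext g
  rw [pc, ← permRep_character, Finset.sum_apply]
  show LinearMap.trace ℂ _ (permRep ℂ G X g) = ∑ j, LinearMap.trace ℂ _ _
  rw [← map_sum]
  congr 1
  have h1 : ∑ j, Matrix.toLin' (Q j) ∘ₗ permRep ℂ G X g = (∑ j, Matrix.toLin' (Q j)) ∘ₗ permRep ℂ G X g := by
    refine LinearMap.ext fun f => ?_
    rw [LinearMap.sum_apply, LinearMap.comp_apply, LinearMap.sum_apply]
    rfl
  rw [h1, ← map_sum, h, Matrix.toLin'_one, LinearMap.id_comp]

/-- **The idempotents are primitive** -/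
theorem exists_irr [Fintype G] {J : Type*} [Fintype J] (Q : J → Matrix X X ℂ) (hQ : ∀ j, Inv G (Q j))
    (h2 : ∀ j, Q j * Q j = Q j) (h0 : ∀ j, (Q j).trace ≠ 0) (h : ∑ j, Q j = 1)
    (hr : Nat.card (orbitRel.Quotient G (X × X)) ≤ Fintype.card J) (j : J) :
    ∃ χ : IrrCharacter G, (charDegree (χ : G → ℂ) : ℂ) = (Q j).trace := by
  classical
  have := finite_irr (G := G)
  have := Fintype.ofFinite (IrrCharacter G)
  have key : ∀ j, ∃ m : IrrCharacter G → ℕ, ch G (Q j) = ∑ ψ : IrrCharacter G, m ψ • (ψ : G → ℂ) :=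
    fun j => exists_nat_comb (isCharacter_ch (hQ j) (h2 j))
  choose m hm using key
  have e : pc G X = ∑ ψ : IrrCharacter G, ((∑ j, m j ψ : ℕ) : ℂ) • (ψ : G → ℂ) := by
    rw [sum_ch Q h, Finset.sum_congr rfl fun j _ => hm j, Finset.sum_comm]
    refine Finset.sum_congr rfl fun ψ _ => ?_
    rw [Nat.cast_smul_eq_nsmul, Finset.sum_smul]
  have h3 : (Nat.card (orbitRel.Quotient G (X × X)) : ℂ) = ∑ ψ, ((∑ j, m j ψ : ℕ) : ℂ) * ((∑ j, m j ψ : ℕ) : ℂ) := by
    rw [← classInner_pc G X X, e, classInner_sum_smul_sum_smul]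
    refine Finset.sum_congr rfl fun ψ _ => ?_
    rw [Complex.conj_natCast]
  have h3' : ∑ ψ, (∑ j, m j ψ) * (∑ j, m j ψ) ≤ Fintype.card J := by
    refine le_trans (le_of_eq ?_) hr
    exact_mod_cast h3.symm
  -- every `m j` is nonzero
  have h4 : ∀ j, 1 ≤ ∑ ψ, m j ψ := by
    intro j
    by_contra hlt
    have h5 : ∑ ψ, m j ψ = 0 := by omega
    apply h0 j
    rw [← ch_one (G := G), hm, Finset.sum_apply]
    refine Finset.sum_eq_zero fun ψ _ => ?_
    rw [Finset.sum_eq_zero_iff.1 h5 ψ (Finset.mem_univ _), zero_smul]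
    rfl
  have h5 : ∑ j, ∑ ψ, m j ψ ≤ Fintype.card J := by
    refine le_trans ?_ h3'
    rw [Finset.sum_comm]
    refine Finset.sum_le_sum fun ψ _ => ?_
    rcases Nat.eq_zero_or_pos (∑ j, m j ψ) with h6 | h6
    · rw [h6]
    · exact Nat.le_mul_of_pos_left _ h6
  have h6 : ∑ ψ, m j ψ = 1 := by
    by_contra hne
    have h7 : 1 < ∑ ψ, m j ψ := lt_of_le_of_ne (h4 j) (Ne.symm hne)
    have h8 : ∑ _j : J, 1 < ∑ j, ∑ ψ, m j ψ :=
      Finset.sum_lt_sum (fun i _ => h4 i) ⟨j, Finset.mem_univ _, h7⟩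
    rw [Finset.sum_const, Finset.card_univ, smul_eq_mul, mul_one] at h8
    omega
  obtain ⟨ψ₀, hψ⟩ : ∃ ψ, m j ψ ≠ 0 := by
    by_contra hcon
    push Not at hcon
    rw [Finset.sum_eq_zero fun ψ _ => hcon ψ] at h6
    exact absurd h6 (by norm_num)
  have h7 : ∀ ψ, ψ ≠ ψ₀ → m j ψ = 0 := by
    intro ψ hne
    by_contra hcon
    have h8 : m j ψ + m j ψ₀ ≤ ∑ ψ, m j ψ := by
      rw [← Finset.sum_pair hne]
      exact Finset.sum_le_sum_of_subset (Finset.subset_univ _)
    omega
  have h8 : m j ψ₀ = 1 := by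
    rw [← h6, Finset.sum_eq_single ψ₀ (fun ψ _ hne => h7 ψ hne) (fun h => absurd (Finset.mem_univ _) h)]
  refine ⟨ψ₀, ?_⟩
  rw [← ch_one (G := G), hm, Finset.sum_apply, Finset.sum_eq_single ψ₀]
  · rw [h8, one_smul]
    exact (Blocks.Basic.irr_one_eq_charDegree ψ₀.2).symm
  · intro ψ _ hne
    rw [h7 ψ hne, zero_smul]
    rfl
  · exact fun h => absurd (Finset.mem_univ _) h

end Cfsg.Agent.H996.Deg.IrrRank
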