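import Mathlib
import Cfsg.Agent.H996.Deg.Hecke
import Cfsg.Agent.H996.Deg.HexAlg
import Cfsg.Agent.H996.Deg.IrrRank
import Cfsg.Agent.ChevalleyStructure.CoxeterGeom

/-!
# The collinearity graph of a building of type `G₂` with parameters `(3, 3)` (helper996)
-/

set_option autoImplicit false
set_option linter.unusedSectionVars false
set_option linter.unusedVariables false

namespace Cfsg.Agent.H996.Deg.Hex

open Cfsg.Agent.Tits.Core Cfsg.Agent.Tits.Core.Bldg Cfsg.Agent.H996.Deg.Hk
  Cfsg.Agent.ChevalleyStructure.CoxeterGeom CoxeterSystem Classical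
open Cfsg.Agent.H996.Deg

section Words

variable {I W : Type*} [Fintype I] [DecidableEq I] [Group W] {M : CoxeterMatrix I} {A : I → I → ℤ}
  (cs : CoxeterSystem M W) (h : IsCartan M A) {i j : I}

include h in
theorem alt_lt (hij : i ≠ j) {k : ℕ} (hk : k < M i j) : cs.length (cs.wordProd (alternatingWord i j k)) <
    cs.length (cs.wordProd (alternatingWord i j k) * cs.simple i) := by
  rw [lt_iff' cs h]
  obtain ⟨x, y, hx, hy, e⟩ := exists_nonneg cs h i j hij k hk
  rw [e]
  exact add_nonneg (Pi.single_nonneg.2 hx) (Pi.single_nonneg.2 hy)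

theorem alt_succ (k : ℕ) : cs.wordProd (alternatingWord j i (k + 1)) =
    cs.wordProd (alternatingWord i j k) * cs.simple i := by
  rw [alternatingWord_succ, cs.wordProd_concat]

include h in
theorem alt_ne_one (hij : i ≠ j) {k : ℕ} (hk : k < M i j) : cs.wordProd (alternatingWord j i (k + 1)) ≠ 1 := by
  intro h1
  have h2 := alt_lt cs h hij hk
  rw [← alt_succ, h1, cs.length_one] at h2
  exact absurd h2 (by omega)

end Words

section Ops

variable {I W C : Type*} [Fintype I] [DecidableEq I] [Group W] {M : CoxeterMatrix I} {A : I → I → ℤ}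
  {cs : CoxeterSystem M W} (h : IsCartan M A) (Δ : Bldg cs C) [Fintype C] {i j : I}

include h in
theorem T_alt (hij : i ≠ j) {k : ℕ} (hk : k < M i j) :
    T Δ (cs.wordProd (alternatingWord j i (k + 1))) = T Δ (cs.wordProd (alternatingWord i j k)) * T Δ (cs.simple i) := by
  rw [T_mul Δ (alt_lt cs h hij hk), alt_succ]

include h in
/-- the relations and the traces of the short words -/
theorem rels (hij : i ≠ j) (hM : M i j = 6) :
    T Δ (cs.simple j) * T Δ (cs.simple i) * T Δ (cs.simple j) * T Δ (cs.simple i) * T Δ (cs.simple j) * T Δ (cs.simple i) =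
      T Δ (cs.simple i) * T Δ (cs.simple j) * T Δ (cs.simple i) * T Δ (cs.simple j) * T Δ (cs.simple i) * T Δ (cs.simple j) ∧
    (T Δ (cs.simple i)).trace = 0 ∧ (T Δ (cs.simple j)).trace = 0 ∧
    (T Δ (cs.simple i) * T Δ (cs.simple j)).trace = 0 ∧
    (T Δ (cs.simple j) * T Δ (cs.simple i) * T Δ (cs.simple j)).trace = 0 ∧
    (T Δ (cs.simple i) * T Δ (cs.simple j) * T Δ (cs.simple i) * T Δ (cs.simple j)).trace = 0 ∧
    (T Δ (cs.simple j) * T Δ (cs.simple i) * T Δ (cs.simple j) * T Δ (cs.simple i) * T Δ (cs.simple j)).trace = 0 ∧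
    (T Δ (cs.simple i) * T Δ (cs.simple j) * T Δ (cs.simple i) * T Δ (cs.simple j) * T Δ (cs.simple i) *
      T Δ (cs.simple j)).trace = 0 := by
  have hM' : M j i = 6 := by rw [M.symmetric, hM]
  have e0 : T Δ (cs.wordProd (alternatingWord i j 0)) = 1 := by
    rw [alternatingWord, cs.wordProd_nil, T_one]
  have e0' : T Δ (cs.wordProd (alternatingWord j i 0)) = 1 := by
    rw [alternatingWord, cs.wordProd_nil, T_one]
  have s1 := fun k (hk : k < 6) => T_alt h Δ hij (k := k) (by rw [hM]; exact hk)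
  have s2 := fun k (hk : k < 6) => T_alt h Δ hij.symm (k := k) (by rw [hM']; exact hk)
  have n1 := fun k (hk : k < 6) => alt_ne_one cs h hij (k := k) (by rw [hM]; exact hk)
  have n2 := fun k (hk : k < 6) => alt_ne_one cs h hij.symm (k := k) (by rw [hM']; exact hk)
  have i1 := s1 0 (by norm_num)
  have j1 := s2 0 (by norm_num)
  have i2 := s1 1 (by norm_num)
  have j2 := s2 1 (by norm_num)
  have i3 := s1 2 (by norm_num)
  have j3 := s2 2 (by norm_num)
  have i4 := s1 3 (by norm_num)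
  have j4 := s2 3 (by norm_num)
  have i5 := s1 4 (by norm_num)
  have j5 := s2 4 (by norm_num)
  have i6 := s1 5 (by norm_num)
  have j6 := s2 5 (by norm_num)
  norm_num only at i1 j1 i2 j2 i3 j3 i4 j4 i5 j5 i6 j6
  rw [e0, one_mul] at i1
  rw [e0', one_mul] at j1
  rw [j1] at i2
  rw [i1] at j2
  rw [j2] at i3
  rw [i2] at j3
  rw [j3] at i4
  rw [i3] at j4
  rw [j4] at i5
  rw [i4] at j5
  rw [j5] at i6
  rw [i5] at j6
  refine ⟨?_, ?_, ?_, ?_, ?_, ?_, ?_, ?_⟩
  · rw [← i6, ← j6]
    congr 1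
    have := cs.prod_alternatingWord_eq_prod_alternatingWord_sub j i 6 (by rw [hM']; norm_num)
    rw [this, hM']
  · rw [← i1]; exact trace_T Δ (n1 0 (by norm_num))
  · rw [← j1]; exact trace_T Δ (n2 0 (by norm_num))
  · rw [← j2]; exact trace_T Δ (n2 1 (by norm_num))
  · rw [← j3]; exact trace_T Δ (n2 2 (by norm_num))
  · rw [← j4]; exact trace_T Δ (n2 3 (by norm_num))
  · rw [← j5]; exact trace_T Δ (n2 4 (by norm_num))
  · rw [← j6]; exact trace_T Δ (n2 5 (by norm_num))

end Ops

section Traces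

variable {C : Type*} [Fintype C] {a b : Matrix C C ℂ}

theorem trace_e (ta : a.trace = 0) : (1 + a).trace = Fintype.card C := by
  rw [Matrix.trace_add, Matrix.trace_one, ta, add_zero]

theorem trace_eb (tb : b.trace = 0) (tab : (a * b).trace = 0) : ((1 + a) * b).trace = 0 := by
  rw [add_mul, one_mul, Matrix.trace_add, tb, tab, add_zero]

theorem sq_eb (hb : b * b = 3 + 2 * b) :
    (1 + a) * b * ((1 + a) * b) = 3 * (1 + a) + 2 * ((1 + a) * b) + (1 + a) * b * a * b := by
  linear_combination (norm := noncomm_ring) (1 + a) * hb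

theorem trace_ebab (t3 : (b * a * b).trace = 0) (t4 : (a * b * a * b).trace = 0) : ((1 + a) * b * a * b).trace = 0 := by
  have e : (1 + a) * b * a * b = b * a * b + a * b * a * b := by noncomm_ring
  rw [e, Matrix.trace_add, t3, t4, add_zero]

theorem trace_three (x : Matrix C C ℂ) : (3 * x).trace = 3 * x.trace := by
  have e : (3 : Matrix C C ℂ) * x = x + x + x := by noncomm_ring
  rw [e, Matrix.trace_add, Matrix.trace_add]
  ring

theorem trace_two (x : Matrix C C ℂ) : (2 * x).trace = 2 * x.trace := by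
  rw [two_mul, Matrix.trace_add]
  ring

theorem trace_sq (hb : b * b = 3 + 2 * b) (ta : a.trace = 0) (tb : b.trace = 0) (tab : (a * b).trace = 0)
    (t3 : (b * a * b).trace = 0) (t4 : (a * b * a * b).trace = 0) :
    ((1 + a) * b * ((1 + a) * b)).trace = 3 * Fintype.card C := by
  rw [sq_eb hb, Matrix.trace_add, Matrix.trace_add, trace_three, trace_two, trace_e ta, trace_eb tb tab,
    trace_ebab t3 t4]
  ring

theorem trace_cb (ha : a * a = 3 + 2 * a) (hb : b * b = 3 + 2 * b) (ta : a.trace = 0) (tb : b.trace = 0)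
    (tab : (a * b).trace = 0) (t3 : (b * a * b).trace = 0) (t4 : (a * b * a * b).trace = 0)
    (t5 : (b * a * b * a * b).trace = 0) (t6 : (a * b * a * b * a * b).trace = 0) :
    ((1 + a) * b * ((1 + a) * b * ((1 + a) * b))).trace = 6 * Fintype.card C := by
  have e1 : (1 + a) * b * ((1 + a) * b * ((1 + a) * b)) = 3 * ((1 + a) * b * (1 + a)) +
      2 * ((1 + a) * b * ((1 + a) * b)) + (3 * (3 * ((1 + a) * b)) + 2 * ((1 + a) * b * a * b) +
        (b * a * b * a * b + a * b * a * b * a * b)) := by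
    linear_combination (norm := noncomm_ring) (1 + a) * b * (1 + a) * hb + 2 * ((1 + a) * hb * (b - b)) +
      (1 + a) * hb * (a * b) + 3 * (HexAlg.ea ha * b)
  have e2 : ((1 + a) * b * (1 + a)).trace = 0 := by
    rw [Matrix.trace_mul_comm, ← mul_assoc, HexAlg.ee ha]
    have e3 : (4 : Matrix C C ℂ) * (1 + a) * b = 2 * (2 * ((1 + a) * b)) := by noncomm_ring
    rw [e3, trace_two, trace_two, trace_eb tb tab, mul_zero, mul_zero]
  rw [e1, Matrix.trace_add, Matrix.trace_add, trace_three, trace_two, e2, trace_sq hb ta tb tab t3 t4,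
    Matrix.trace_add, Matrix.trace_add, trace_three, trace_three, trace_eb tb tab, trace_two, trace_ebab t3 t4,
    Matrix.trace_add, t5, t6]
  ring

end Traces

section Col

variable {C X : Type*} [Fintype C] [Fintype X] (N : C → X)

/-- the incidence matrix of chambers and panels -/
noncomputable def J : Matrix C X ℂ := Matrix.of fun c x => if N c = x then 1 else 0

theorem J_apply (c : C) (x : X) : J N c x = if N c = x then 1 else 0 := rfl

theorem J_mul_transpose (c d : C) : (J N * (J N).transpose) c d = if N c = N d then 1 else 0 := by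
  rw [Matrix.mul_apply]
  have key : ∀ x, J N c x * (J N).transpose x d = if x = N c then (if N c = N d then 1 else 0) else 0 := by
    intro x
    show (if N c = x then (1 : ℂ) else 0) * (if N d = x then 1 else 0) = _
    by_cases h : x = N c
    · subst h
      simp [eq_comm]
    · rw [if_neg h, if_neg (Ne.symm h), zero_mul]
  rw [Finset.sum_congr rfl fun x _ => key x, Finset.sum_ite_eq' Finset.univ (N c), if_pos (Finset.mem_univ _)]

theorem transpose_mul_J (x y : X) : ((J N).transpose * J N) x y =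
    if x = y then (Nat.card {c // N c = x} : ℂ) else 0 := by
  rw [Matrix.mul_apply]
  have key : ∀ c, (J N).transpose x c * J N c y = if N c = x ∧ N c = y then 1 else 0 := by
    intro c
    show (if N c = x then (1 : ℂ) else 0) * (if N c = y then 1 else 0) = _
    by_cases h : N c = x
    · by_cases h' : N c = y
      · rw [if_pos h, if_pos h', if_pos (⟨h, h'⟩ : N c = x ∧ N c = y), one_mul]
      · simp [h']
    · simp [h]
  rw [Finset.sum_congr rfl fun c _ => key c, Finset.sum_boole]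
  by_cases h : x = y
  · subst h
    rw [if_pos rfl, Nat.card_eq_fintype_card, Fintype.card_subtype]
    congr 2
    ext c
    simp
  · rw [if_neg h]
    have h1 : (Finset.univ.filter fun c => N c = x ∧ N c = y) = ∅ := by
      ext c
      simp only [Finset.mem_filter, Finset.mem_univ, true_and, Finset.notMem_empty, iff_false]
      rintro ⟨rfl, h2⟩
      exact h h2
    rw [h1, Finset.card_empty, Nat.cast_zero]

theorem lit {C : Type*} [Fintype C] (n : ℕ) [n.AtLeastTwo] (x : Matrix C C ℂ) :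
    (ofNat(n) : Matrix C C ℂ) * x = (ofNat(n) : ℂ) • x := by
  rw [← Nat.cast_ofNat (R := Matrix C C ℂ), ← nsmul_eq_mul, ← Nat.cast_smul_eq_nsmul ℂ, Nat.cast_ofNat]

/-- the relation and the traces for `J ᵀ b J` -/
theorem op (a b : Matrix C C ℂ) (ha : a * a = 3 + 2 * a) (hb : b * b = 3 + 2 * b)
    (hab : b * a * b * a * b * a = a * b * a * b * a * b) (ta : a.trace = 0) (tb : b.trace = 0)
    (tab : (a * b).trace = 0) (t3 : (b * a * b).trace = 0) (t4 : (a * b * a * b).trace = 0)
    (t5 : (b * a * b * a * b).trace = 0) (t6 : (a * b * a * b * a * b).trace = 0)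
    (j : Matrix C X ℂ) (k : Matrix X C ℂ)
    (hJ : j * k = 1 + a) (hJ' : k * j = (4 : ℂ) • 1) :
    ∃ x : Matrix X X ℂ, x = k * b * j ∧
      x * (x * (x * x)) - (12 : ℂ) • (x * (x * x)) - (21 : ℂ) • (x * x) + (232 : ℂ) • x + (240 : ℂ) • 1 = 0 ∧
      x.trace = 0 ∧ (x * x).trace = 12 * Fintype.card X ∧ (x * (x * x)).trace = 24 * Fintype.card X := by
  obtain ⟨x, hx⟩ : ∃ x, x = k * b * j := ⟨_, rfl⟩
  obtain ⟨y, hy⟩ : ∃ y, y = (1 + a) * b := ⟨_, rfl⟩
  have h1 : j * x = y * j := by
    rw [hx, hy, ← hJ, ← Matrix.mul_assoc, ← Matrix.mul_assoc]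
  have h2 : (1 + a) * j = (4 : ℂ) • j := by
    rw [← hJ, Matrix.mul_assoc, hJ', Matrix.mul_smul, Matrix.mul_one]
  have hk : k * (1 + a) = (4 : ℂ) • k := by
    rw [← hJ, ← Matrix.mul_assoc, hJ', Matrix.smul_mul, Matrix.one_mul]
  have step : ∀ z : Matrix X X ℂ, j * (x * z) = y * (j * z) := by
    intro z
    rw [← Matrix.mul_assoc, h1, Matrix.mul_assoc]
  have hcard : (Fintype.card C : ℂ) = 4 * Fintype.card X := by
    rw [← trace_e ta, ← hJ, Matrix.trace_mul_comm, hJ', Matrix.trace_smul, Matrix.trace_one, smul_eq_mul]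
  have tr : ∀ z : Matrix X X ℂ, (4 : ℂ) * z.trace = (j * z * k).trace := by
    intro z
    rw [Matrix.trace_mul_comm, ← Matrix.mul_assoc, hJ', Matrix.smul_mul, Matrix.one_mul, Matrix.trace_smul, smul_eq_mul]
  have t1 : x.trace = 0 := by
    rw [hx, Matrix.trace_mul_comm, ← Matrix.mul_assoc, hJ, trace_eb tb tab]
  have t2 : (x * x).trace = 12 * Fintype.card X := by
    have e : (x * x).trace = ((1 + a) * b * ((1 + a) * b)).trace := by
      conv_lhs => rw [hx]
      rw [Matrix.mul_assoc, Matrix.mul_assoc, Matrix.trace_mul_comm, ← hx, h1, hy]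
      rw [Matrix.mul_assoc b, Matrix.mul_assoc ((1 + a) * b), hJ, Matrix.trace_mul_comm, ← Matrix.mul_assoc]
    rw [e, trace_sq hb ta tb tab t3 t4, hcard]
    ring
  have t3' : (x * (x * x)).trace = 24 * Fintype.card X := by
    have e : (x * (x * x)).trace = ((1 + a) * b * ((1 + a) * b * ((1 + a) * b))).trace := by
      conv_lhs => rw [hx]
      rw [Matrix.mul_assoc, Matrix.mul_assoc, Matrix.trace_mul_comm, ← hx, step, h1, hy]
      rw [Matrix.mul_assoc b, Matrix.mul_assoc ((1 + a) * b), Matrix.mul_assoc ((1 + a) * b), hJ,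
        Matrix.trace_mul_comm]
      congr 1
      noncomm_ring
    rw [e, trace_cb ha hb ta tb tab t3 t4 t5 t6, hcard]
    ring
  refine ⟨x, hx, ?_, t1, t2, t3'⟩
  -- the relation
  have hrel := HexAlg.rel ha hb hab
  rw [← hy] at hrel
  simp only [lit] at hrel
  have h3 : (4 : ℂ) • (j * (x * (x * (x * x)) - (12 : ℂ) • (x * (x * x)) - (21 : ℂ) • (x * x) + (232 : ℂ) • x +
      (240 : ℂ) • 1)) = 0 := by
    have h4 := congrArg (fun m : Matrix C C ℂ => m * j) hrel
    simp only [Matrix.zero_mul, Matrix.add_mul, Matrix.sub_mul, Matrix.smul_mul, Matrix.mul_assoc] at h4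
    have h2' : j + a * j = (4 : ℂ) • j := by rw [← h2, Matrix.add_mul, Matrix.one_mul]
    simp only [Matrix.one_mul, h2', Matrix.mul_smul] at h4
    rw [← h4]
    simp only [Matrix.mul_add, Matrix.mul_sub, Matrix.mul_smul, step, h1, Matrix.mul_one, smul_add, smul_sub]
    simp only [smul_comm (4 : ℂ)]
  have h5 : j * (x * (x * (x * x)) - (12 : ℂ) • (x * (x * x)) - (21 : ℂ) • (x * x) + (232 : ℂ) • x +
      (240 : ℂ) • 1) = 0 := (smul_eq_zero.1 h3).resolve_left (by norm_num)
  have h6 := congrArg (fun m => k * m) h5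
  simp only [Matrix.mul_zero] at h6
  rw [← Matrix.mul_assoc, hJ', Matrix.smul_mul, Matrix.one_mul] at h6
  exact (smul_eq_zero.1 h6).resolve_left (by norm_num)

end Col

section Idem

open Cfsg Cfsg.Agent.H996.Deg.IrrRank MulAction

variable {X : Type*} [Fintype X]

/-- the four idempotents -/
noncomputable def Q (x : Matrix X X ℂ) : Fin 4 → Matrix X X ℂ :=
  ![(1 / 1456 : ℂ) • (x * (x * x) - (21 : ℂ) • x - (20 : ℂ) • 1),
    (-1 / 378 : ℂ) • (x * (x * x) - (7 : ℂ) • (x * x) - (56 : ℂ) • x - (48 : ℂ) • 1),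
    (1 / 234 : ℂ) • (x * (x * x) - (13 : ℂ) • (x * x) - (8 : ℂ) • x + (240 : ℂ) • 1),
    (-1 / 432 : ℂ) • (x * (x * x) - (16 : ℂ) • (x * x) + (43 : ℂ) • x + (60 : ℂ) • 1)]

theorem sum_Q (x : Matrix X X ℂ) : ∑ k, Q x k = 1 := by
  rw [Fin.sum_univ_four]
  simp only [Q, Matrix.cons_val]
  module

/-- an eigenvector of the left multiplication -/
theorem idem_aux {x s : Matrix X X ℂ} {t c : ℂ} {c2 c1 c0 : ℂ} (hs : s = x * (x * x) + c2 • (x * x) + c1 • x + c0 • 1)
    (h : x * s = t • s) (hc : c * (t * (t * t) + c2 * (t * t) + c1 * t + c0) = 1) : (c • s) * (c • s) = c • s := by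
  have h1 : s * s = (t * (t * t) + c2 * (t * t) + c1 * t + c0) • s := by
    have e : s * s = (x * (x * x) + c2 • (x * x) + c1 • x + c0 • 1) * s := by rw [← hs]
    rw [e]
    simp only [Matrix.add_mul, Matrix.smul_mul, Matrix.mul_assoc, h, Matrix.mul_smul, Matrix.one_mul, smul_smul]
    module
  rw [Matrix.smul_mul, Matrix.mul_smul, h1, smul_smul, smul_smul, mul_assoc, hc, mul_one]

theorem idem_Q {x : Matrix X X ℂ} (h : x * (x * (x * x)) - (12 : ℂ) • (x * (x * x)) - (21 : ℂ) • (x * x) +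
    (232 : ℂ) • x + (240 : ℂ) • 1 = 0) (k : Fin 4) : Q x k * Q x k = Q x k := by
  have h' : x * (x * (x * x)) = (12 : ℂ) • (x * (x * x)) + (21 : ℂ) • (x * x) - (232 : ℂ) • x - (240 : ℂ) • 1 := by
    rw [← sub_eq_zero, ← h]
    module
  fin_cases k
  · refine idem_aux (x := x) (t := 12) (c2 := 0) (c1 := -21) (c0 := -20) ?_ ?_ (by norm_num)
    · module
    · simp only [Matrix.mul_sub, Matrix.mul_smul, Matrix.mul_one, h']
      module
  · refine idem_aux (x := x) (t := 5) (c2 := -7) (c1 := -56) (c0 := -48) ?_ ?_ (by norm_num)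
    · module
    · simp only [Matrix.mul_sub, Matrix.mul_smul, Matrix.mul_one, h']
      module
  · refine idem_aux (x := x) (t := -1) (c2 := -13) (c1 := -8) (c0 := 240) ?_ ?_ (by norm_num)
    · module
    · simp only [Matrix.mul_sub, Matrix.mul_add, Matrix.mul_smul, Matrix.mul_one, h']
      module
  · refine idem_aux (x := x) (t := -4) (c2 := -16) (c1 := 43) (c0 := 60) ?_ ?_ (by norm_num)
    · module
    · simp only [Matrix.mul_sub, Matrix.mul_add, Matrix.mul_smul, Matrix.mul_one, h']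
      module

theorem trace_Q {x : Matrix X X ℂ} (t1 : x.trace = 0) (t2 : (x * x).trace = 12 * Fintype.card X)
    (t3 : (x * (x * x)).trace = 24 * Fintype.card X) :
    (Q x 0).trace = (Fintype.card X : ℂ) / 364 ∧ (Q x 1).trace = 104 * ((Fintype.card X : ℂ) / 364) ∧
    (Q x 2).trace = 168 * ((Fintype.card X : ℂ) / 364) ∧ (Q x 3).trace = 91 * ((Fintype.card X : ℂ) / 364) := by
  refine ⟨?_, ?_, ?_, ?_⟩ <;>
  · simp only [Q, Matrix.cons_val, Matrix.trace_smul, Matrix.trace_sub, Matrix.trace_add, t1, t2, t3, Matrix.trace_one,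
      smul_eq_mul]
    ring

/-- **The degrees of the constituents** -/
theorem degrees {G : Type*} [Group G] [Fintype G] [MulAction G X] [Nonempty X] {x : Matrix X X ℂ} (hx : Inv G x)
    (h : x * (x * (x * x)) - (12 : ℂ) • (x * (x * x)) - (21 : ℂ) • (x * x) + (232 : ℂ) • x + (240 : ℂ) • 1 = 0)
    (t1 : x.trace = 0) (t2 : (x * x).trace = 12 * Fintype.card X) (t3 : (x * (x * x)).trace = 24 * Fintype.card X)
    (hr : Nat.card (orbitRel.Quotient G (X × X)) ≤ 4) :
    ∃ d : ℕ, Fintype.card X = 364 * d ∧ d ≠ 0 ∧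
      ∀ m ∈ ({1, 104, 168, 91} : Finset ℕ), ∃ χ : IrrCharacter G, charDegree (χ : G → ℂ) = m * d := by
  obtain ⟨q0, q1, q2, q3⟩ := trace_Q t1 t2 t3
  have hX : (Fintype.card X : ℂ) ≠ 0 := by exact_mod_cast Fintype.card_ne_zero
  have hX' : (Fintype.card X : ℂ) / 364 ≠ 0 := div_ne_zero hX (by norm_num)
  have hinv : ∀ k, Inv G (Q x k) := by
    intro k
    have h2 := hx.mul hx
    have h3 := hx.mul h2
    have h1 : Inv G (1 : Matrix X X ℂ) := Inv.one
    fin_cases k
    · exact (((h3.sub (hx.smul 21)).sub (h1.smul 20)).smul _)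
    · exact ((((h3.sub (h2.smul 7)).sub (hx.smul 56)).sub (h1.smul 48)).smul _)
    · exact ((((h3.sub (h2.smul 13)).sub (hx.smul 8)).add (h1.smul 240)).smul _)
    · exact ((((h3.sub (h2.smul 16)).add (hx.smul 43)).add (h1.smul 60)).smul _)
  have key := exists_irr (G := G) (Q x) hinv (idem_Q h) (by
    intro k
    fin_cases k
    · exact q0 ▸ hX'
    · exact q1 ▸ mul_ne_zero (by norm_num) hX'
    · exact q2 ▸ mul_ne_zero (by norm_num) hX'
    · exact q3 ▸ mul_ne_zero (by norm_num) hX') (sum_Q x) (by rw [Fintype.card_fin]; exact hr)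
  obtain ⟨χ₀, e0⟩ := key 0
  obtain ⟨χ₁, e1⟩ := key 1
  obtain ⟨χ₂, e2⟩ := key 2
  obtain ⟨χ₃, e3⟩ := key 3
  rw [q0] at e0
  rw [q1, ← e0] at e1
  rw [q2, ← e0] at e2
  rw [q3, ← e0] at e3
  refine ⟨charDegree (χ₀ : G → ℂ), ?_, ?_, ?_⟩
  · have h5 : (Fintype.card X : ℂ) = 364 * charDegree (χ₀ : G → ℂ) := by
      rw [e0]; ring
    exact_mod_cast h5
  · intro h5
    rw [h5, Nat.cast_zero] at e0
    exact hX' e0.symm
  · intro m hm
    simp only [Finset.mem_insert, Finset.mem_singleton] at hm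
    rcases hm with rfl | rfl | rfl | rfl
    · exact ⟨χ₀, by rw [one_mul]⟩
    · exact ⟨χ₁, by exact_mod_cast e1⟩
    · exact ⟨χ₂, by exact_mod_cast e2⟩
    · exact ⟨χ₃, by exact_mod_cast e3⟩

end Idem

end Cfsg.Agent.H996.Deg.Hex
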