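import Mathlib
import Cfsg.Agent.H996.Deg.Hexagon
import Cfsg.Agent.H996.Deg.Asm
import Cfsg.Agent.H996.Deg.RgdEdge

/-!
# The degrees `1, 104, 168, 91` of `G₂(3)` (helper996)

For a group with a split (B,N)-pair of type `G₂` all of whose root groups have order three: the permutation character on
the cosets of a minimal parabolic subgroup has constituents of the degrees `d, 104 d, 168 d, 91 d` (`d = 1`).
-/

set_option autoImplicit false
set_option linter.unusedSectionVars false
set_option linter.unusedVariables false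

namespace Cfsg.Agent.H996.Deg.Bd

open Module Cfsg Cfsg.Agent.Tits.Core Cfsg.Agent.Tits.Core.Bldg Cfsg.Agent.Tits.Exchange Cfsg.Agent.H249 MulAction
  Cfsg.Agent.H996.Deg.CoxPar Cfsg.Agent.H996.Deg.Hk Cfsg.Agent.H996.Deg.Hex Classical
  Cfsg.Agent.ChevalleyStructure.CoxeterGeom CoxeterSystem

universe u v

variable {I : Type*} [DecidableEq I] [Fintype I] {W : Type v} {Y : Type u} {C : Type*} [Group W] [Group Y]
  {M : CoxeterMatrix I} {cs : CoxeterSystem M W} {p : ℕ} [MulAction Y C] {D : Dat Y I p} {Δ : Bldg cs C} {c : C}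

/-- the double cosets of `⟨s⟩` in the dihedral group of order `12` -/
theorem card_DC_le {i j : I} (hI : ∀ k : I, k = i ∨ k = j) (hM : M i j = 6) :
    Nat.card (DC (cs.simple i)) ≤ 4 := by
  obtain ⟨s, hs⟩ : ∃ s, s = cs.simple i := ⟨_, rfl⟩
  obtain ⟨t, ht⟩ : ∃ t, t = cs.simple j := ⟨_, rfl⟩
  have ss : s * s = 1 := by rw [hs, cs.simple_mul_simple_self]
  have tt : t * t = 1 := by rw [ht, cs.simple_mul_simple_self]
  have br : t * s * t * s * t * s = s * t * s * t * s * t := by
    have h1 := cs.simple_mul_simple_pow i j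
    rw [hM, ← hs, ← ht] at h1
    have h2 : (s * t) ^ 3 * (s * t) ^ 3 = 1 := by rw [← pow_add]; exact h1
    have h3 : (s * t) ^ 3 = ((s * t) ^ 3)⁻¹ := mul_eq_one_iff_eq_inv.1 h2
    have si : s⁻¹ = s := inv_eq_of_mul_eq_one_left ss
    have ti : t⁻¹ = t := inv_eq_of_mul_eq_one_left tt
    have h4 : ((s * t) ^ 3)⁻¹ = (t * s) ^ 3 := by rw [← inv_pow, mul_inv_rev, si, ti]
    rw [h4] at h3
    have e1 : (s * t) ^ 3 = s * t * s * t * s * t := by
      rw [pow_succ, pow_two]; simp only [mul_assoc]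
    have e2 : (t * s) ^ 3 = t * s * t * s * t * s := by
      rw [pow_succ, pow_two]; simp only [mul_assoc]
    rw [← e1, ← e2, h3]
  let r : Fin 4 → W := ![1, t, t * s * t, t * s * t * s * t]
  have key : ∀ w : W, ∃ k, ∃ a ∈ Subgroup.zpowers s, ∃ b ∈ Subgroup.zpowers s, w = a * r k * b := by
    intro w
    induction w using cs.simple_induction_right with
    | one => exact ⟨0, 1, one_mem _, 1, one_mem _, by simp [r]⟩
    | mul_simple_right w k ih =>
      obtain ⟨m, a, ha, b, hb, rfl⟩ := ih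
      have hsm := Subgroup.mem_zpowers s
      rcases hI k with rfl | rfl
      · rw [← hs]
        exact ⟨m, a, ha, b * s, mul_mem hb hsm, by group⟩
      · rw [← ht]
        rcases mem_zp ss hb with rfl | rfl
        · fin_cases m
          · exact ⟨1, a, ha, 1, one_mem _, by simp [r]⟩
          · refine ⟨0, a, ha, 1, one_mem _, ?_⟩
            show a * t * 1 * t = a * 1 * 1
            rw [mul_one, mul_one, mul_one, mul_assoc, tt, mul_one]
          · refine ⟨1, a, ha, s, hsm, ?_⟩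
            show a * (t * s * t) * 1 * t = a * t * s
            rw [mul_one, mul_assoc, mul_assoc (t * s), tt, mul_one, mul_assoc]
          · refine ⟨2, a, ha, s, hsm, ?_⟩
            show a * (t * s * t * s * t) * 1 * t = a * (t * s * t) * s
            rw [mul_one, mul_assoc, mul_assoc (t * s * t * s), tt, mul_one, mul_assoc a (t * s * t)]
        · fin_cases m
          · refine ⟨1, a * b, mul_mem ha hsm, 1, one_mem _, ?_⟩
            show a * 1 * b * t = a * b * t * 1
            rw [mul_one, mul_one]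
          · refine ⟨2, a, ha, 1, one_mem _, ?_⟩
            show a * t * b * t = a * (t * b * t) * 1
            group
          · refine ⟨3, a, ha, 1, one_mem _, ?_⟩
            show a * (t * b * t) * b * t = a * (t * b * t * b * t) * 1
            group
          · refine ⟨2, a * b, mul_mem ha hsm, b, hsm, ?_⟩
            show a * (t * b * t * b * t) * b * t = a * b * (t * b * t) * b
            calc a * (t * b * t * b * t) * b * t = a * (t * b * t * b * t * b) * t := by group
              _ = a * (b * t * b * t * b * t) * t := by rw [br]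
              _ = a * b * (t * b * t) * b * (t * t) := by group
              _ = _ := by rw [tt, mul_one]
  have hsurj : Function.Surjective (fun k : Fin 4 => (Quotient.mk _ (r k) : DC (cs.simple i))) := by
    intro q
    induction q using Quotient.inductionOn with | _ w => ?_
    obtain ⟨k, a, ha, b, hb, e⟩ := key w
    refine ⟨k, Quotient.sound (DoubleCoset.rel_iff.2 ⟨a, ?_, b, ?_, e⟩)⟩
    · rw [← hs]; exact ha
    · rw [← hs]; exact hb
  have h := Nat.card_le_card_of_surjective _ hsurj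
  rwa [Nat.card_fin] at h

variable (S : Bd D Δ c)
include S

/-- the chambers adjacent to a chamber -/
theorem card_panel (i : I) (x : C) : Nat.card {y // Δ.δ x y = cs.simple i} = Nat.card (D.X i) := by
  obtain ⟨g, rfl⟩ := S.trans x
  symm
  refine Nat.card_congr (Equiv.ofBijective
    (fun u : D.X i => (⟨(g * (u * D.n i)) • c, by
      rw [mul_smul, S.iso, mul_smul, S.δ_B (D.U_le_B (D.XU i u.2)), S.n]⟩ : {y // Δ.δ (g • c) y = cs.simple i}))
    ⟨?_, ?_⟩)
  · rintro ⟨u, hu⟩ ⟨v, hv⟩ h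
    have h1 : (g * (u * D.n i)) • c = (g * (v * D.n i)) • c := congrArg Subtype.val h
    have h2 : (D.n i)⁻¹ * (u⁻¹ * v) * D.n i ∈ D.B := by
      rw [S.B]
      have e : (D.n i)⁻¹ * (u⁻¹ * v) * D.n i = (g * (u * D.n i))⁻¹ * (g * (v * D.n i)) := by group
      rw [e, mul_smul, ← h1, inv_smul_smul]
    have h3 := D.nX i _ (mul_mem (inv_mem hu) hv) h2
    exact Subtype.ext (inv_mul_eq_one.1 h3)
  · rintro ⟨y, hy⟩
    obtain ⟨k, rfl⟩ := S.trans y
    have h1 : Δ.δ c ((g⁻¹ * k) • c) = cs.simple i := by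
      rw [mul_smul, S.δ_smul, inv_inv]; exact hy
    have h2 : g⁻¹ * k ∉ D.B := by
      intro h3
      rw [(S.B _).1 h3, Δ.δ_self] at h1
      have := cs.length_simple i
      rw [← h1, cs.length_one] at this
      omega
    obtain ⟨b₁, hb₁, b₂, hb₂, e⟩ := D.mem_P i (S.mem_P_of h1) h2
    obtain ⟨t, ht, u, hu, rfl⟩ := D.mem_B.1 hb₁
    have hu' : t * u * t⁻¹ ∈ D.U := D.TU t ht u hu
    obtain ⟨v, hv, z, hz, e2⟩ := D.mul i _ (inv_mem hu')
    refine ⟨⟨z⁻¹, inv_mem hz⟩, Subtype.ext ?_⟩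
    show (g * (z⁻¹ * D.n i)) • c = k • c
    have e3 : k = g * (z⁻¹ * D.n i) * (((D.n i)⁻¹ * v⁻¹ * D.n i) * ((D.n i)⁻¹ * t * D.n i) * b₂) := by
      have e4 : t * u * t⁻¹ = z⁻¹ * v⁻¹ := by rw [← mul_inv_rev, ← e2, inv_inv]
      have e5 : k = g * (g⁻¹ * k) := by group
      rw [e5, e]
      have e6 : t * u = z⁻¹ * v⁻¹ * t := by rw [← e4]; group
      rw [e6]; group
    have h5 : ((D.n i)⁻¹ * v⁻¹ * D.n i) * ((D.n i)⁻¹ * t * D.n i) * b₂ ∈ D.B := by
      refine mul_mem (mul_mem ?_ ?_) hb₂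
      · exact D.U_le_B (D.QU i (D.nQ' i _ (inv_mem hv)))
      · have := D.NT (D.n i)⁻¹ (inv_mem (D.nN i)) t ht
        rw [inv_inv] at this
        exact D.T_le_B this
    conv_rhs => rw [e3, mul_smul, (S.B _).1 h5]

/-- the panel of a chamber -/
noncomputable def pn (S : Bd D Δ c) (i : I) (y : C) : Y ⧸ D.P i := ((S.trans y).choose : Y ⧸ D.P i)

theorem pn_smul (i : I) (g : Y) : S.pn i (g • c) = (g : Y ⧸ D.P i) := by
  unfold pn
  rw [QuotientGroup.eq]
  have h := (S.trans (g • c)).choose_spec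
  generalize (S.trans (g • c)).choose = k at h ⊢
  refine D.B_le_P i ((S.B _).2 ?_)
  rw [mul_smul, ← h, inv_smul_smul]

theorem pn_eq_iff (i : I) (y z : C) : S.pn i y = S.pn i z ↔ Δ.δ y z = 1 ∨ Δ.δ y z = cs.simple i := by
  obtain ⟨g, rfl⟩ := S.trans y
  obtain ⟨k, rfl⟩ := S.trans z
  rw [S.pn_smul, S.pn_smul, QuotientGroup.eq]
  have e : Δ.δ (g • c) (k • c) = Δ.δ c ((g⁻¹ * k) • c) := by
    rw [mul_smul, S.δ_smul, inv_inv]
  rw [e]
  constructor
  · exact fun h => S.P_stab h
  · rintro (h | h)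
    · refine D.B_le_P i ((S.B _).2 ?_)
      exact ((Δ.eq_one _ _).1 h).symm
    · exact S.mem_P_of h

theorem pn_equi (i : I) (g : Y) (y : C) : S.pn i (g • y) = g • S.pn i y := by
  obtain ⟨k, rfl⟩ := S.trans y
  rw [← mul_smul, S.pn_smul, S.pn_smul]
  rfl

/-- **The degrees of the constituents of `1_P^G`**, type `G₂`, root groups of order three -/
theorem degrees {A : I → I → ℤ} (h : IsCartan M A) [Fintype Y] [Fintype C] {i j : I} (hij : i ≠ j)
    (hM : M i j = 6) (hi : Nat.card (D.X i) = 3) (hj : Nat.card (D.X j) = 3) (hdc : Nat.card (DC (cs.simple i)) ≤ 4) :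
    ∃ d : ℕ, (D.P i).index = 364 * d ∧ d ≠ 0 ∧
      ∀ m ∈ ({1, 104, 168, 91} : Finset ℕ), ∃ χ : IrrCharacter Y, charDegree (χ : Y → ℂ) = m * d := by
  have : Fintype (Y ⧸ D.P i) := Fintype.ofFinite _
  obtain ⟨hab, ta, tb, tab, t3, t4, t5, t6⟩ := rels h Δ hij hM
  have hcast : ∀ x : Matrix C C ℂ, ((3 : ℕ) : ℂ) • (1 : Matrix C C ℂ) + (((3 : ℕ) : ℂ) - 1) • x = 3 + 2 * x := by
    intro x
    have e1 : (3 : Matrix C C ℂ) = (3 : ℂ) • 1 := by rw [← lit, mul_one]
    rw [lit, e1]
    norm_num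
  have ha := T_sq Δ (i := i) (q := 3) (fun x => by rw [S.card_panel, hi])
  have hb := T_sq Δ (i := j) (q := 3) (fun x => by rw [S.card_panel, hj])
  rw [hcast] at ha hb
  have hJ : J (S.pn i) * (J (S.pn i)).transpose = 1 + T Δ (cs.simple i) := by
    ext y z
    rw [J_mul_transpose, Matrix.add_apply, Matrix.one_apply, T_apply]
    have hs1 : cs.simple i ≠ 1 := by
      intro h
      have := cs.length_simple i
      rw [h, cs.length_one] at this
      exact absurd this (by norm_num)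
    simp only [S.pn_eq_iff]
    by_cases h1 : y = z
    · subst h1
      rw [Δ.δ_self, if_pos (Or.inl rfl), if_pos rfl, if_neg (Ne.symm hs1), add_zero]
    · have h2 : Δ.δ y z ≠ 1 := fun h => h1 ((Δ.eq_one _ _).1 h)
      rw [if_neg h1, zero_add]
      simp only [h2, false_or]
  have hJ' : (J (S.pn i)).transpose * J (S.pn i) = (4 : ℂ) • 1 := by
    ext x y
    rw [transpose_mul_J, Matrix.smul_apply, Matrix.one_apply]
    by_cases hxy : x = y
    · subst hxy
      rw [if_pos rfl, if_pos rfl, smul_eq_mul, mul_one]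
      induction x using QuotientGroup.induction_on with
      | _ g =>
      have e1 : Nat.card {y // S.pn i y = (g : Y ⧸ D.P i)} = 4 := by
        have e2 : ∀ y, S.pn i y = (g : Y ⧸ D.P i) ↔ y ∈ insert (g • c) {y | Δ.δ (g • c) y = cs.simple i} := by
          intro y
          rw [← S.pn_smul, eq_comm, S.pn_eq_iff, Set.mem_insert_iff, Δ.eq_one, eq_comm]
          rfl
        have e3 : Nat.card {y // S.pn i y = (g : Y ⧸ D.P i)} =
            (insert (g • c) {y | Δ.δ (g • c) y = cs.simple i} : Set C).ncard := by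
          rw [← Nat.card_coe_set_eq]
          exact Nat.card_congr (Equiv.subtypeEquivRight e2)
        rw [e3, Set.ncard_insert_of_notMem, ← Nat.card_coe_set_eq]
        · have h6 := S.card_panel i (g • c)
          rw [hi] at h6
          have h7 : Nat.card ↑{y | Δ.δ (g • c) y = cs.simple i} = 3 := h6
          rw [h7]
        · intro h1
          have h2 : Δ.δ (g • c) (g • c) = cs.simple i := h1
          rw [Δ.δ_self] at h2
          have := cs.length_simple i
          rw [← h2, cs.length_one] at this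
          omega
      rw [e1]
      norm_num
    · rw [if_neg hxy, if_neg hxy, smul_zero]
  obtain ⟨x, hx, hrel, x1, x2, x3⟩ := Hex.op (T Δ (cs.simple i)) (T Δ (cs.simple j)) ha hb hab ta tb tab t3 t4 t5 t6
    (J (S.pn i)) (J (S.pn i)).transpose hJ (by convert hJ')
  have hJg : ∀ (g : Y) (f : C) (y : Y ⧸ D.P i), J (S.pn i) (g • f) (g • y) = J (S.pn i) f y := by
    intro g f y
    rw [J_apply, J_apply]
    by_cases h1 : S.pn i f = y
    · rw [if_pos h1, if_pos (by rw [S.pn_equi, h1])]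
    · rw [if_neg h1, if_neg (fun h2 => h1 (by rw [S.pn_equi] at h2; exact smul_left_cancel g h2))]
  have hinv : IrrRank.Inv Y x := by
    intro g y z
    rw [hx, Matrix.mul_apply, Matrix.mul_apply, ← Equiv.sum_comp (MulAction.toPerm g)]
    refine Finset.sum_congr rfl fun e _ => ?_
    rw [MulAction.toPerm_apply, Matrix.mul_apply, Matrix.mul_apply, ← Equiv.sum_comp (MulAction.toPerm g)]
    congr 1
    · refine Finset.sum_congr rfl fun f _ => ?_
      rw [MulAction.toPerm_apply, Matrix.transpose_apply, Matrix.transpose_apply, hJg, T_apply, T_apply, S.iso]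
    · exact hJg g e z
  obtain ⟨d, h1, h2, h3⟩ := Hex.degrees (G := Y) hinv hrel x1 x2 x3 (by rw [S.card_orbits]; exact hdc)
  refine ⟨d, ?_, h2, h3⟩
  rw [Subgroup.index, Nat.card_eq_fintype_card, h1]

end Cfsg.Agent.H996.Deg.Bd

namespace Cfsg.Agent.H996.Deg.GThree

open Cfsg CoxeterSystem Cfsg.Agent.ChevalleyStructure.CoxeterGeom Cfsg.Agent.Tits.Roots Cfsg.Agent.Tits.Core
  Cfsg.Agent.Tits.Exchange Cfsg.Agent.Nodes.Reps Cfsg.Agent.Nodes.BNOf Cfsg.Agent.Nodes.StabComb
  Cfsg.Agent.Nodes.Bruhat Cfsg.Agent.Nodes.OppDec Cfsg.Agent.Nodes.LeviDec Cfsg.Agent.H167.SteinbergRGD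
open Cfsg.Agent.H249.OfRGD

section RGD

variable {I W Y : Type*} [Fintype I] [DecidableEq I] [Group W] [Group Y] {M : CoxeterMatrix I}
  {cs : CoxeterSystem M W} {A : I → I → ℤ} {h : IsCartan M A} {p : ℕ} {T : Subgroup Y} {n : I → Y}
  {X : (I → ℤ) → Subgroup Y}

theorem degrees_of_rgd (R : RGD cs h p T n X) [Finite W] [Fintype Y] (hp : p.Prime) (hG : GG cs h T X = ⊤)
    {i j : I} (hij : i ≠ j) (hI : ∀ k : I, k = i ∨ k = j) (hM : M i j = 6)
    (hX : ∀ i, Nat.card (X (sr i)) = 3) :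
    ∃ d : ℕ, ((dat R hp hG).P i).index = 364 * d ∧ d ≠ 0 ∧
      ∀ m ∈ ({1, 104, 168, 91} : Finset ℕ), ∃ χ : IrrCharacter Y, charDegree (χ : Y → ℂ) = m * d := by
  obtain ⟨Δ, S⟩ := exists_bd R hp hG
  have := Fintype.ofFinite (Y ⧸ RGD.B cs h T X)
  exact S.degrees h hij hM (hX i) (hX j) (Bd.card_DC_le hI hM)

end RGD

section G2

open Cfsg.Agent.Nodes Cfsg.Agent.Nodes.RGDChev Cfsg.Agent.ChevalleyStructure Cfsg.Agent.ChevalleyStructure.Elts Cfsg.Lie

universe u

theorem card_rootSubgroup {D : ChevalleyDatum} {l : ℕ} {M : CoxeterMatrix (Fin l)} (hp : IsType D l M) {K : Type u}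
    [Field K] {r : ℕ} (hr : r < D.nroots) : Nat.card (D.rootSubgroup K r) = Nat.card K := by
  symm
  refine Nat.card_congr (Equiv.ofBijective
    (fun t => (⟨xG hp.inList r t, xG_mem_rootSubgroup hp.inList r t⟩ : D.rootSubgroup K r)) ⟨?_, ?_⟩)
  · intro a b hab
    exact xG_injective hp.inList hr (congrArg Subtype.val hab)
  · rintro ⟨g, hg⟩
    obtain ⟨t, ht⟩ := (mem_rootSubgroup_iff hp.inList r g).1 hg
    exact ⟨t, Subtype.ext ht.symm⟩

/-- **Irreducible characters of the degrees `1, 104, 168, 91` (times `d`)** of `G₂(K)`, `|K| = 3` -/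
theorem degrees_G2 {K : Type u} [Field K] [Finite K] (hK : Nat.card K = 3) :
    ∃ d : ℕ, d ≠ 0 ∧ ∀ m ∈ ({1, 104, 168, 91} : Finset ℕ), ∃ χ : IrrCharacter ↥(chevG2.group K),
      charDegree (χ : ↥(chevG2.group K) → ℂ) = m * d := by
  have : Fintype K := Fintype.ofFinite K
  obtain ⟨p, hch⟩ := CharP.exists K
  have : Fact p.Prime := ⟨CharP.char_is_prime K p⟩
  have hp : IsType chevG2 2 CoxeterMatrix.G₂ := by simp [IsType, typeList]
  have hfin : Finite ↥(chevG2.group K) := inferInstance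
  have := Fintype.ofFinite ↥(chevG2.group K)
  have hW := finite_W hp CoxeterMatrix.G₂.toCoxeterSystem
  have R := rgd (K := K) hp CoxeterMatrix.G₂.toCoxeterSystem p
  have hG : GG CoxeterMatrix.G₂.toCoxeterSystem hp.isCartan ((chevG2.diagonalSubgroup K).subgroupOf (chevG2.group K))
      (fun x => (XV chevG2 2 K x).subgroupOf (chevG2.group K)) = ⊤ := by
    rw [eq_top_iff, ← G1_eq_top hp CoxeterMatrix.G₂.toCoxeterSystem]
    exact le_sup_right
  obtain ⟨d, -, h1, h2⟩ := degrees_of_rgd R Fact.out hG (i := 0) (j := 1) (by decide) (by decide) (by decide) (by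
    intro i
    rw [XV_sr hp, Nat.card_congr (Subgroup.subgroupOfEquivOfLe ?_).toEquiv,
      card_rootSubgroup hp (NPerm.simple_lt hp.inList (lt_rank hp i)), hK]
    rw [← XV_sr hp]
    exact XV_le_group hp _)
  exact ⟨d, h1, h2⟩

/-- **the edge `3 - 2` of the degree graph of `G₂(3)`** -/
theorem adj_three_two {K : Type u} [Field K] [Finite K] (hK : Nat.card K = 3) :
    H671.H5.Adj 3 2 ↥(chevG2.group K) := by
  obtain ⟨d, h1, h2⟩ := degrees_G2 hK
  obtain ⟨χ, hχ⟩ := h2 168 (by decide)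
  exact ⟨by norm_num, Nat.prime_three, Nat.prime_two, _, ⟨χ, rfl⟩, by
    show 3 * 2 ∣ charDegree (χ : ↥(chevG2.group K) → ℂ)
    rw [hχ]
    exact Dvd.intro (28 * d) (by ring)⟩

end G2

end Cfsg.Agent.H996.Deg.GThree
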