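import Mathlib
import Cfsg.Agent.H996.Deg.Edge
import Cfsg.Agent.Tits.OfBN
import Cfsg.Agent.S0320

/-!
# The building of an abstract split (B,N)-datum (helper996)

`D : H249.Dat G I p` with `N = ⟨n_i⟩ T`, `B ∩ N ≤ T` and `n_i B ≠ n_j B` gives a (B,N)-pair, a Coxeter system on
its Weyl group and a building on `G ⧸ B` with `Bd`.
-/

set_option autoImplicit false
set_option linter.unusedSectionVars false
set_option linter.unusedVariables false

namespace Cfsg.Agent.H996.Deg.OfDat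

open Cfsg Cfsg.Agent.Tits.Core Cfsg.Agent.Tits.Core.Bldg Cfsg.Agent.Tits.OfBN Cfsg.Agent.H249
  Cfsg.Agent.LieExceptional.BNPairCore

universe u v

variable {G : Type u} [Group G] {I : Type v} {p : ℕ} (D : Dat G I p)

theorem n_notMem (i : I) : D.n i ∉ D.B := by
  intro h
  obtain ⟨x, hx, hx1⟩ := (Subgroup.bot_or_exists_ne_one (D.X i)).resolve_left (D.Xne i)
  exact hx1 (D.nX i x hx (mul_mem (mul_mem (inv_mem h) (D.U_le_B (D.XU i hx))) h))

theorem conj_N {k t : G} (hk : k ∈ D.N) (ht : t ∈ D.T) : k⁻¹ * t * k ∈ D.T := by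
  have := D.NT k⁻¹ (inv_mem hk) t ht
  rwa [inv_inv] at this

theorem mem_dc {s b : G} (hb : b ∈ D.B) {c : G} (hc : c ∈ D.B) :
    b * s * c ∈ DoubleCoset.doubleCoset s (D.B : Set G) D.B :=
  DoubleCoset.mem_doubleCoset.2 ⟨b, hb, c, hc, rfl⟩

theorem union (i : I) {n : G} (hn : n ∈ D.N) {b : G} (hb : b ∈ D.B) :
    D.n i * b * n ∈ DoubleCoset.doubleCoset (D.n i * n) (D.B : Set G) D.B ∪
      DoubleCoset.doubleCoset n (D.B : Set G) D.B := by
  obtain ⟨t, ht, u, hu, rfl⟩ := D.mem_B.1 hb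
  obtain ⟨v, hv, x, hx, rfl⟩ := D.mul i u hu
  have h1 : D.n i * t * (D.n i)⁻¹ ∈ D.B := D.T_le_B (D.NT _ (D.nN i) t ht)
  have h2 : D.n i * v * (D.n i)⁻¹ ∈ D.B := D.U_le_B (D.QU i (D.nQ i v hv))
  have h3 : D.n i * t * (D.n i)⁻¹ * (D.n i * v * (D.n i)⁻¹) ∈ D.B := mul_mem h1 h2
  have e : D.n i * (t * (v * x)) * n = (D.n i * t * (D.n i)⁻¹ * (D.n i * v * (D.n i)⁻¹)) * (D.n i * x * n) := by group
  by_cases hx1 : x = 1
  · left
    rw [e, hx1, mul_one]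
    have := mem_dc D (s := D.n i * n) h3 (one_mem D.B)
    rwa [mul_one] at this
  rcases D.NX n hn i with h | h
  · left
    have e2 : (D.n i * t * (D.n i)⁻¹ * (D.n i * v * (D.n i)⁻¹)) * (D.n i * x * n) =
      (D.n i * t * (D.n i)⁻¹ * (D.n i * v * (D.n i)⁻¹)) * (D.n i * n) * (n⁻¹ * x * n) := by group
    rw [e, e2]
    exact mem_dc D h3 (h x hx)
  · right
    have hxB : D.n i * x * (D.n i)⁻¹ ∉ D.T ⊔ D.U := by
      intro hcon
      apply hx1
      refine D.nX i x hx ?_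
      have e3 : (D.n i)⁻¹ * x * D.n i = (D.n i * D.n i)⁻¹ * (D.n i * x * (D.n i)⁻¹) * (D.n i * D.n i) := by group
      rw [e3]
      have h4 : D.n i * D.n i ∈ D.T ⊔ D.U := D.T_le_B (D.sq i)
      exact mul_mem (mul_mem (inv_mem h4) hcon) h4
    obtain ⟨b₁, hb₁, b₂, hb₂, e4⟩ := D.step i x (D.U_le_B (D.XU i hx)) hxB
    obtain ⟨t₂, ht₂, u₂, hu₂, rfl⟩ := D.mem_B.1 hb₂
    obtain ⟨v₂, hv₂, x₂, hx₂, rfl⟩ := D.mul i u₂ hu₂
    -- `s x n = b₁ (s t₂ s⁻¹) (s v₂ s⁻¹) (s x₂ s⁻¹) s s n`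
    have e5 : D.n i * x * n = (b₁ * ((D.n i * t₂ * (D.n i)⁻¹) * (D.n i * v₂ * (D.n i)⁻¹))) * n *
        ((n⁻¹ * (D.n i * x₂ * (D.n i)⁻¹) * n) * (n⁻¹ * (D.n i * D.n i) * n)) := by
      have e6 : D.n i * x = (D.n i * x * (D.n i)⁻¹) * D.n i := by group
      rw [e6, e4]
      group
    rw [e, e5]
    have h5 : D.n i * t₂ * (D.n i)⁻¹ ∈ D.B := D.T_le_B (D.NT _ (D.nN i) t₂ ht₂)
    have h6 : D.n i * v₂ * (D.n i)⁻¹ ∈ D.B := D.U_le_B (D.QU i (D.nQ i v₂ hv₂))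
    have h7 : n⁻¹ * (D.n i * x₂ * (D.n i)⁻¹) * n ∈ D.B := h x₂ hx₂
    have h8 : n⁻¹ * (D.n i * D.n i) * n ∈ D.B := D.T_le_B (conj_N D hn (D.sq i))
    have e7 : D.n i * t * (D.n i)⁻¹ * (D.n i * v * (D.n i)⁻¹) *
        (b₁ * (D.n i * t₂ * (D.n i)⁻¹ * (D.n i * v₂ * (D.n i)⁻¹)) * n *
          (n⁻¹ * (D.n i * x₂ * (D.n i)⁻¹) * n * (n⁻¹ * (D.n i * D.n i) * n))) =
        (D.n i * t * (D.n i)⁻¹ * (D.n i * v * (D.n i)⁻¹) *
        (b₁ * (D.n i * t₂ * (D.n i)⁻¹ * (D.n i * v₂ * (D.n i)⁻¹)))) * n *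
          (n⁻¹ * (D.n i * x₂ * (D.n i)⁻¹) * n * (n⁻¹ * (D.n i * D.n i) * n)) := by group
    rw [e7]
    exact mem_dc D (mul_mem h3 (mul_mem hb₁ (mul_mem h5 h6))) (mul_mem h7 h8)

/-- the (B,N)-pair of a split (B,N)-datum -/
def bnPair (hN : D.N ≤ Subgroup.closure (Set.range D.n) ⊔ D.T) (hBN : D.B ⊓ D.N ≤ D.T)
    (hinj : ∀ i j, (D.n i)⁻¹ * D.n j ∈ D.B → i = j) : Cfsg.BNPair G where
  B := D.B
  N := D.N
  S := Set.range D.n
  sup_eq_top := by
    rw [eq_top_iff]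
    intro g _
    obtain ⟨u, hu, k, hk, b, hb, rfl⟩ := D.bruhat g
    exact mul_mem (mul_mem (Subgroup.mem_sup_left (D.U_le_B hu)) (Subgroup.mem_sup_right hk)) (Subgroup.mem_sup_left hb)
  conj_mem := fun n hn t ht => D.T_le_B (D.NT n hn t (hBN ht))
  subset := by
    rintro _ ⟨i, rfl⟩
    exact D.nN i
  sq_mem := by
    rintro _ ⟨i, rfl⟩
    exact D.T_le_B (D.sq i)
  inj := by
    rintro _ ⟨i, rfl⟩ _ ⟨j, rfl⟩ h
    rw [hinj i j h]
  closure_sup := by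
    apply le_antisymm
    · refine sup_le ((Subgroup.closure_le _).2 ?_) inf_le_right
      rintro _ ⟨i, rfl⟩
      exact D.nN i
    · exact hN.trans (sup_le_sup_left (le_inf D.T_le_B D.TN) _)
  mul_mem_union := by
    rintro _ ⟨i, rfl⟩ n hn b hb
    exact union D i hn hb
  conj_ne := by
    rintro _ ⟨i, rfl⟩ h
    obtain ⟨x, hx, hx1⟩ := (Subgroup.bot_or_exists_ne_one (D.X i)).resolve_left (D.Xne i)
    apply hx1
    refine D.nX i x hx ?_
    have hxB : x ∈ (D.B : Set G) := D.U_le_B (D.XU i hx)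
    rw [← h] at hxB
    obtain ⟨b, hb, e⟩ := hxB
    have e2 : (D.n i)⁻¹ * x * D.n i = b * (D.n i * D.n i) := by
      rw [← e]; group
    rw [e2]
    exact mul_mem hb (D.T_le_B (D.sq i))

/-- **The building of a split (B,N)-datum** -/
theorem exists_bd [Finite G] (hN : D.N ≤ Subgroup.closure (Set.range D.n) ⊔ D.T) (hBN : D.B ⊓ D.N ≤ D.T)
    (hinj : ∀ i j, (D.n i)⁻¹ * D.n j ∈ D.B → i = j) :
    ∃ (M : CoxeterMatrix I) (W : Type u) (_ : Group W) (_ : Finite W) (cs : CoxeterSystem M W)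
      (Δ : Bldg cs (G ⧸ D.B)), Bd D Δ (QuotientGroup.mk 1) := by
  set P := bnPair D hN hBN hinj with hP
  have hnP := normal_subgroupOf P
  obtain ⟨M₀, cs₀, hcs₀⟩ := S0320.result P
  have hninj : Function.Injective D.n := fun i j h => hinj i j (by rw [h, inv_mul_cancel]; exact one_mem _)
  let e : I ≃ P.S := Equiv.ofInjective D.n hninj
  let cs : CoxeterSystem (M₀.reindex e.symm) (WP P) := cs₀.reindex e.symm
  have hcs : ∀ i, cs.simple i = QuotientGroup.mk (⟨(e i : G), P.subset (e i).2⟩ : P.N) := by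
    intro i
    show (cs₀.reindex e.symm).simple i = _
    rw [CoxeterSystem.reindex_simple, Equiv.symm_symm]
    exact hcs₀ (e i)
  refine ⟨_, WP P, inferInstance, inferInstance, cs, bldg P e cs hcs, ?_⟩
  refine ⟨fun g x y => dist_smul P g x y, fun x y x' y' h => trans P x y x' y' h, fun g => ?_, fun i => ?_⟩
  · constructor
    · intro hg
      show (QuotientGroup.mk (g * 1) : G ⧸ D.B) = QuotientGroup.mk 1
      rw [eq_comm, QuotientGroup.eq]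
      simpa using hg
    · intro hg
      have h1 : (QuotientGroup.mk (g * 1) : G ⧸ D.B) = QuotientGroup.mk 1 := hg
      rw [eq_comm, QuotientGroup.eq] at h1
      simpa using h1
  · show (bldg P e cs hcs).δ (QuotientGroup.mk 1) (QuotientGroup.mk (D.n i * 1)) = cs.simple i
    rw [bldg_δ_mk, hcs]
    apply wt_of_mem P
    have h1 : (1 : G)⁻¹ * (D.n i * 1) = (e i : G) := by
      show _ = D.n i
      group
    rw [h1]
    exact self_mem_C _

end Cfsg.Agent.H996.Deg.OfDat
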