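import Mathlib
import Cfsg.Agent.H996.Deg.OfDat
import Cfsg.Agent.H392.TwFFour.DatF
import Cfsg.Agent.H42.Deg.F4Rows
import Cfsg.Agent.H671.H5Facts

/-!
# The edge `2 - l` of the degree graph of `²F₄(q)`, `q ≥ 8` (helper996)
-/

set_option autoImplicit false
set_option linter.unusedSectionVars false
set_option linter.unusedVariables false

namespace Cfsg.Agent.H996.Deg.TwFFour

open Cfsg Cfsg.Agent.SplitTwo Cfsg.Agent.SplitTwo.ZS Cfsg.Agent.TitsThree.RankTwoZ Cfsg.Agent.KFacts.TwF4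
open Cfsg.Agent.KFacts.TwF4.Arc Cfsg.Agent.KFacts.TwF4.Irr
open Cfsg.Agent.H249 Cfsg.Agent.H392.TwFFour Cfsg.Agent.Tits.Core

universe u

section BN

variable {F : Type*} [Field F] {σ : F →+* F} {G : Type u} [Group G] (S : Full σ G)

theorem maps_card {w : G} {f : ZMod (2 * 8) → ZMod (2 * 8)} (h : Maps S.R.X w f) (k : ZMod (2 * 8)) :
    Nat.card (S.R.X (f k)) = Nat.card (S.R.X k) := by
  symm
  refine Nat.card_congr (Equiv.ofBijective (fun x : S.R.X k => (⟨w * x * w⁻¹, (h k x).2 x.2⟩ : S.R.X (f k))) ⟨?_, ?_⟩)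
  · intro x y hxy
    have := congrArg Subtype.val hxy
    exact Subtype.ext (mul_left_cancel (mul_right_cancel this))
  · rintro ⟨y, hy⟩
    refine ⟨⟨w⁻¹ * y * w, (h k _).1 ?_⟩, ?_⟩
    · have e : w * (w⁻¹ * y * w) * w⁻¹ = y := by group
      rw [e]; exact hy
    · apply Subtype.ext
      show w * (w⁻¹ * y * w) * w⁻¹ = y
      group

theorem even_or_odd : ∀ c : ZMod (2 * 8), (∃ d : ℕ, d < 8 ∧ c = ((2 * d : ℕ) : ZMod (2 * 8))) ∨
    (∃ d : ℕ, d < 8 ∧ c = ((2 * d + 1 : ℕ) : ZMod (2 * 8))) := by decide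

variable [Finite F]

theorem card_X_odd (d : ℕ) : Nat.card (S.R.X ((2 * d + 1 : ℕ) : ZMod (2 * 8))) = Nat.card F := by
  have h := card_odd S (d : ℤ)
  have e : S.XZ (2 * (d : ℤ) + 1) = S.R.X ((2 * d + 1 : ℕ) : ZMod (2 * 8)) := by
    show S.R.X ((2 * (d : ℤ) + 1 : ℤ) : ZMod (2 * 8)) = _
    push_cast; rfl
  rw [← e]; exact h

theorem card_X_even (d : ℕ) : Nat.card (S.R.X ((2 * d : ℕ) : ZMod (2 * 8))) = Nat.card F ^ 2 := by
  have h := card_even S (d : ℤ)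
  have e : S.XZ (2 * (d : ℤ)) = S.R.X ((2 * d : ℕ) : ZMod (2 * 8)) := by
    show S.R.X ((2 * (d : ℤ) : ℤ) : ZMod (2 * 8)) = _
    push_cast; rfl
  rw [← e]; exact h

theorem even_of_maps {w : G} {f : ZMod (2 * 8) → ZMod (2 * 8)} (h : Maps S.R.X w f) :
    ∃ d : ℕ, d < 8 ∧ f 0 = ((2 * d : ℕ) : ZMod (2 * 8)) := by
  rcases even_or_odd (f 0) with h1 | ⟨d, hd, h1⟩
  · exact h1
  exfalso
  have h2 := maps_card S h 0
  have h3 := card_X_even S 0
  rw [Nat.mul_zero, Nat.cast_zero] at h3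
  rw [h1, card_X_odd, h3] at h2
  have h4 : 1 < Nat.card F := Finite.one_lt_card
  nlinarith

/-- `n1 n2` -/
theorem rot_pow (d : ℕ) : Maps S.R.X ((S.n1 * S.n2) ^ d) (fun k => ((2 * d : ℕ) : ZMod (2 * 8)) + k) := by
  have h1 : Maps S.R.X (S.n1 * S.n2) (fun k => 2 + k) :=
    ((n1_maps S).mul S.n2_maps).congr fun k => by simp only [Function.comp]; ring
  induction d with
  | zero =>
    rw [pow_zero]
    exact Maps.one.congr fun k => by simp
  | succ d ih =>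
    rw [pow_succ]
    exact (ih.mul h1).congr fun k => by simp only [Function.comp]; push_cast; ring

theorem arc_add : ∀ c : ZMod (2 * 8), (∀ j, Po j → c + j ≠ 9 ∧ c + j ≠ 0) → c = 0 := by decide

theorem arc_sub : ∀ c : ZMod (2 * 8), (∀ j, Po j → c - j ≠ 9 ∧ c - j ≠ 0) → c = 9 := by decide

theorem nine_odd : ∀ d : ℕ, d < 8 → ((2 * d : ℕ) : ZMod (2 * 8)) ≠ 9 := by decide

variable [Finite G]

theorem no_nine {j : ZMod (2 * 8)} (hj : j = 9 ∨ j = 0) : ¬ S.R.X j ≤ J S.XZ 1 8 := by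
  intro hle
  obtain ⟨x, hx, hx1⟩ : ∃ x ∈ S.R.X j, x ≠ 1 := by
    rw [X_eq S j]
    exact S.zsys8.exists_ne _
  apply hx1
  rcases hj with rfl | rfl
  · exact X9_inf_U S (x := x) hx (hle hx)
  · exact (S.J07_inf_UT (x := x) hx (hle hx) (one_mem S.T) (mul_one _).symm).1

theorem B_inf_N (hR : S.R.p = 2) : (datF S hR).B ⊓ (datF S hR).N ≤ (datF S hR).T := by
  rintro w ⟨hwB, hwN⟩
  have hwN' : w ∈ Nm S := hwN
  obtain ⟨c, hc⟩ := hwN'
  have hnorm : ∀ u ∈ J S.XZ 1 8, w * u * w⁻¹ ∈ J S.XZ 1 8 := fun u hu => (datF S hR).BU w hwB u hu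
  have key : ∀ f : ZMod (2 * 8) → ZMod (2 * 8), Maps S.R.X w f → ∀ j, Po j → f j ≠ 9 ∧ f j ≠ 0 := by
    intro f hf j hj
    have hle : S.R.X (f j) ≤ J S.XZ 1 8 := by
      intro y hy
      have e : y = w * (w⁻¹ * y * w) * w⁻¹ := by group
      rw [e] at hy ⊢
      exact hnorm _ (X_le_U S hj ((hf j _).1 hy))
    exact ⟨fun h => no_nine S (Or.inl h) hle, fun h => no_nine S (Or.inr h) hle⟩
  show Maps S.R.X w id
  rcases hc with hc | hc
  · have h0 := arc_add c (key _ hc)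
    subst h0
    exact hc.congr fun k => by simp
  · exfalso
    have h0 := arc_sub c (key _ hc)
    subst h0
    obtain ⟨d, hd, h1⟩ := even_of_maps S hc
    rw [sub_zero] at h1
    exact nine_odd d hd h1.symm

theorem N_le (hR : S.R.p = 2) :
    (datF S hR).N ≤ Subgroup.closure (Set.range (datF S hR).n) ⊔ (datF S hR).T := by
  intro w hw
  have hw' : w ∈ Nm S := hw
  set H := Subgroup.closure (Set.range (datF S hR).n) ⊔ (datF S hR).T with hH
  have h1 : S.n1 ∈ H := Subgroup.mem_sup_left (Subgroup.subset_closure ⟨0, rfl⟩)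
  have h2 : S.n2 ∈ H := Subgroup.mem_sup_left (Subgroup.subset_closure ⟨1, rfl⟩)
  have hT : S.T ≤ H := le_sup_right
  obtain ⟨c, hc | hc⟩ := hw'
  · obtain ⟨d, hd, e⟩ := even_of_maps S hc
    rw [add_zero] at e
    subst e
    have h3 : ((S.n1 * S.n2) ^ d)⁻¹ * w ∈ S.T := by
      have h4 : Maps S.R.X ((S.n1 * S.n2) ^ d)⁻¹ (fun k => -((2 * d : ℕ) : ZMod (2 * 8)) + k) :=
        (rot_pow S d).inv fun k => by ring
      exact (h4.mul hc).congr fun k => by simp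
    have e : w = (S.n1 * S.n2) ^ d * (((S.n1 * S.n2) ^ d)⁻¹ * w) := by group
    rw [e]
    exact mul_mem (pow_mem (mul_mem h1 h2) d) (hT h3)
  · obtain ⟨d, hd, e⟩ := even_of_maps S hc
    rw [sub_zero] at e
    subst e
    have h5 : Maps S.R.X ((S.n1 * S.n2) ^ (d + 4) * S.n2) (fun k => ((2 * d : ℕ) : ZMod (2 * 8)) - k) := by
      refine ((rot_pow S (d + 4)).mul S.n2_maps).congr fun k => ?_
      simp only [Function.comp]
      have h16 : (8 : ZMod (2 * 8)) + 8 = 0 := by decide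
      push_cast
      linear_combination h16
    have h3 : ((S.n1 * S.n2) ^ (d + 4) * S.n2)⁻¹ * w ∈ S.T := by
      have h4 : Maps S.R.X ((S.n1 * S.n2) ^ (d + 4) * S.n2)⁻¹ (fun k => ((2 * d : ℕ) : ZMod (2 * 8)) - k) :=
        h5.inv fun k => by ring
      exact (h4.mul hc).congr fun k => by simp
    have e : w = ((S.n1 * S.n2) ^ (d + 4) * S.n2) * (((S.n1 * S.n2) ^ (d + 4) * S.n2)⁻¹ * w) := by group
    rw [e]
    exact mul_mem (mul_mem (pow_mem (mul_mem h1 h2) _) h2) (hT h3)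

theorem n_inj (hR : S.R.p = 2) (i j : Fin 2) (h : ((datF S hR).n i)⁻¹ * (datF S hR).n j ∈ (datF S hR).B) : i = j := by
  by_contra hij
  have key : ∀ c : ZMod (2 * 8), c = 2 ∨ c = -2 → ∀ w : G, Maps S.R.X w (fun k => c + k) → w ∈ (datF S hR).B → False := by
    intro c hc w hw hwB
    have h1 : w ∈ (datF S hR).T := B_inf_N S hR ⟨hwB, ⟨c, Or.inl hw⟩⟩
    have h2 : Maps S.R.X w id := h1
    obtain ⟨x, hx, hx1⟩ : ∃ x ∈ S.R.X 1, x ≠ 1 := by
      rw [X_eq S 1]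
      exact S.zsys8.exists_ne _
    have h3 : w * x * w⁻¹ ∈ S.R.X 1 := (h2 1 x).2 hx
    have h4 : w * x * w⁻¹ ∈ S.R.X (c + 1) := (hw 1 x).2 hx
    have h5 : w * x * w⁻¹ = 1 := S.X_inf (i := 1) (j := c + 1) (by rcases hc with rfl | rfl <;> decide) h3 h4
    apply hx1
    have e : x = w⁻¹ * (w * x * w⁻¹) * w := by group
    rw [e, h5]; group
  have h1i : Maps S.R.X S.n1⁻¹ (fun k => 10 - k) := (n1_maps S).inv fun k => by ring
  have h2i : Maps S.R.X S.n2⁻¹ (fun k => 8 - k) := S.n2_maps.inv fun k => by ring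
  fin_cases i <;> fin_cases j
  · exact hij rfl
  · exact key 2 (Or.inl rfl) (S.n1⁻¹ * S.n2) ((h1i.mul S.n2_maps).congr fun k => by
      simp only [Function.comp]; ring) h
  · exact key (-2) (Or.inr rfl) (S.n2⁻¹ * S.n1) ((h2i.mul (n1_maps S)).congr fun k => by
      simp only [Function.comp]; ring) h
  · exact hij rfl

/-- **the building of `²F₄(q)`** -/
theorem exists_bd (hR : S.R.p = 2) :
    ∃ (M : CoxeterMatrix (Fin 2)) (W : Type u) (_ : Group W) (_ : Finite W) (cs : CoxeterSystem M W)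
      (Δ : Bldg cs (G ⧸ (datF S hR).B)), Bd (datF S hR) Δ (QuotientGroup.mk 1) :=
  OfDat.exists_bd _ (N_le S hR) (B_inf_N S hR) (n_inj S hR)

/-- a nontrivial constituent of the permutation character on `G/B` of even degree, not a power of two -/
theorem exists_constituent (hF : ∃ c : Fˣ, c ≠ 1) (hR : S.R.p = 2) [IsSimpleGroup G] (hnc : ¬ IsMulCommutative G)
    (hUi : ¬ 2 ∣ (J S.XZ 1 8).index) :
    ∃ χ : G → ℂ, IsIrrCharacter G χ ∧ χ ≠ (fun _ => 1) ∧ ∃ n : ℕ, χ 1 = n ∧ 2 ∣ n ∧ ∃ l : ℕ, l.Prime ∧ l ≠ 2 ∧ l ∣ n := by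
  obtain ⟨M, W, iW, iF, cs, Δ, hΔ⟩ := exists_bd S hR
  have := Fintype.ofFinite G
  have := Fintype.ofFinite W
  have := Fintype.ofFinite (G ⧸ (datF S hR).B)
  obtain ⟨χ, h1, h2, -, h3⟩ := hΔ.exists_constituent (gen_U S hF hR) (exists_jdat S hF hR) hnc hUi
    (i := 0) (j := 1) (by decide)
  exact ⟨χ, h1, h2, h3⟩

end BN

theorem arith {q : ℕ} (h8 : 2 ∣ q) (h9 : 1 ≤ q) : ¬ 2 ∣ (q - 1) * ((q ^ 3 + 1) * ((q ^ 4 - 1) * (q ^ 6 + 1))) := by
  intro h2
  have h4 : 1 ≤ q ^ 4 := Nat.one_le_pow _ _ h9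
  have d3 : 2 ∣ q ^ 3 := dvd_pow h8 (by norm_num)
  have d4 : 2 ∣ q ^ 4 := dvd_pow h8 (by norm_num)
  have d6 : 2 ∣ q ^ 6 := dvd_pow h8 (by norm_num)
  rcases (Nat.Prime.dvd_mul Nat.prime_two).1 h2 with h | h
  · omega
  rcases (Nat.Prime.dvd_mul Nat.prime_two).1 h with h | h
  · omega
  rcases (Nat.Prime.dvd_mul Nat.prime_two).1 h with h | h
  · omega
  · omega

/-- **the edge** -/
theorem adj {S : Type*} [Group S] [Finite S] [IsSimpleGroup S] (hnc : ¬ IsMulCommutative S) (h : Lie.Iso2F4 S) :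
    ∃ l : ℕ, l.Prime ∧ l ≠ 2 ∧ H671.H5.Adj 2 l S := by
  obtain ⟨K, _, _, m, hm, hK, ⟨e⟩⟩ := h
  have hch := Cfsg.Agent.ChevalleyStructure.TwF4.Twisted.charP_two hK
  have hfin : Finite ↥(Lie.twistedF4 K (2 ^ m)) := Finite.of_equiv S e.toEquiv
  obtain ⟨φ, hφ⟩ := Cfsg.Agent.ChevalleyStructure.TwF4.TwistedFix.exists_rln hK
  have hcard := Cfsg.Agent.S1068.result hK
  set D := Cfsg.Agent.KFacts.TwF4.Inst.full hK hφ with hS
  have hF := H42.Deg.F4.exists_unit hm hK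
  have : IsSimpleGroup ↥(Lie.twistedF4 K (2 ^ m)) := MulEquiv.isSimpleGroup e.symm
  have hnc' : ¬ IsMulCommutative ↥(Lie.twistedF4 K (2 ^ m)) := by
    intro hc
    exact hnc ⟨⟨fun a b => e.injective (by rw [map_mul, map_mul]; exact hc.1.1 _ _)⟩⟩
  have hq : Nat.card K = 2 ^ (2 * m + 1) := by rw [Nat.card_eq_fintype_card, hK]
  have hidx : ¬ 2 ∣ (J D.XZ 1 8).index := by
    intro h2
    have h1 := (J D.XZ 1 8).card_mul_index
    rw [card_U D, hcard, hq, mul_assoc, mul_assoc, mul_assoc] at h1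
    have h0 : 0 < ((2 ^ (2 * m + 1)) ^ 12 : ℕ) := by positivity
    have h3 := Nat.eq_of_mul_eq_mul_left h0 h1
    rw [h3] at h2
    exact arith (dvd_pow_self 2 (by omega)) Nat.one_le_two_pow h2
  obtain ⟨χ, hχ, h1, n, hn, hpd, l, hl, hlp, hld⟩ := exists_constituent D hF rfl hnc' hidx
  refine ⟨l, hl, hlp, hlp.symm, Nat.prime_two, hl, _, ⟨⟨χ ∘ e, Characters.Core.isIrr_comp e.toMonoidHom e.surjective hχ⟩, rfl⟩, ?_⟩
  have hcd : charDegree (χ ∘ e) = n := H670.PSing.charDegree_eq_of (by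
    show χ (e 1) = n
    rw [map_one, hn])
  show 2 * l ∣ charDegree (χ ∘ e)
  rw [hcd]
  exact Nat.Coprime.mul_dvd_of_dvd_of_dvd ((Nat.coprime_primes Nat.prime_two hl).2 hlp.symm) hpd hld

/-- **(Conn)** for `²F₄(q)` -/
theorem conn {S : Type*} [Group S] [Finite S] [IsSimpleGroup S] (hnc : ¬ IsMulCommutative S) (h : Lie.Iso2F4 S) :
    ((degreeGraph S).induce (degreePrimes S)).Connected := by
  obtain ⟨l, -, -, hl⟩ := adj hnc h
  exact (H42.Deg.F4.big2 h).conn hl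

end Cfsg.Agent.H996.Deg.TwFFour
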