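import Mathlib
import Cfsg.Agent.H996.Deg.GThree
import Cfsg.Agent.H996.Deg.Two
import Cfsg.Agent.H996.Deg.TwFFour
import Cfsg.Agent.H53.HC.ExcGraph
import Cfsg.Agent.H115.HC.Rows

/-!
# The degree graphs of the exceptional groups are connected: `G₂`, `³D₄`, `F₄` (helper996)

(`E₆`, `E₇`, `E₈`, `²E₆`: `H53.HC.ExcGraph`; `²F₄`: `TwFFour.conn`)
-/

set_option autoImplicit false

namespace Cfsg.Agent.H996.Deg.ExcConn

open Cfsg Cfsg.Agent.H53.HC Cfsg.Agent.H671.H5 Cfsg.Lie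

theorem adj_congr {S S' : Type*} [Group S] [Group S'] (e : S ≃* S') {p q : ℕ} (h : Adj p q S') : Adj p q S := by
  rw [adj_iff] at h ⊢
  obtain ⟨h1, h2, h3, χ, hχ⟩ := h
  refine ⟨h1, h2, h3, ⟨(χ : S' → ℂ) ∘ e, Characters.Core.isIrr_comp e.toMonoidHom e.surjective χ.2⟩, ?_⟩
  have h4 : charDegree ((χ : S' → ℂ) ∘ e) = charDegree (χ : S' → ℂ) := by
    apply H670.PSing.charDegree_eq_of
    show (χ : S' → ℂ) (e 1) = _
    rw [map_one]
    exact Blocks.Basic.irr_one_eq_charDegree χ.2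
  show p * q ∣ charDegree ((χ : S' → ℂ) ∘ e)
  rw [h4]
  exact hχ

theorem exists_two {F : Type*} [Field F] [Fintype F] (h : 4 ≤ Fintype.card F) :
    ∃ a a' : F, a ≠ 0 ∧ a ≠ 1 ∧ a' ≠ 0 ∧ a' ≠ 1 ∧ a ≠ a' := by
  classical
  have h1 : ∃ a : F, a ∉ ({0, 1} : Finset F) := by
    by_contra hcon
    push Not at hcon
    have h2 := Finset.card_le_card (s := (Finset.univ : Finset F)) (t := {0, 1}) fun x _ => hcon x
    rw [Finset.card_univ] at h2
    have := Finset.card_le_two (a := (0 : F)) (b := 1)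
    omega
  obtain ⟨a, ha⟩ := h1
  have h2 : ∃ a' : F, a' ∉ ({0, 1, a} : Finset F) := by
    by_contra hcon
    push Not at hcon
    have h2 := Finset.card_le_card (s := (Finset.univ : Finset F)) (t := {0, 1, a}) fun x _ => hcon x
    rw [Finset.card_univ] at h2
    have := Finset.card_le_three (a := (0 : F)) (b := 1) (c := a)
    omega
  obtain ⟨a', ha'⟩ := h2
  simp only [Finset.mem_insert, Finset.mem_singleton, not_or] at ha ha'
  exact ⟨a, a', ha.1, ha.2, ha'.1, ha'.2.1, Ne.symm ha'.2.2⟩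

/-- **(Conn)** for `G₂(q)`, `q ≥ 3` -/
theorem conn_G2 {S : Type*} [Group S] [Finite S] (h : Lie.IsoChevG2 S) (hs : IsSimpleGroup S)
    (hnc : ¬ IsMulCommutative S) : ((degreeGraph S).induce (degreePrimes S)).Connected := by
  obtain ⟨F, _, _, h3, ⟨e⟩⟩ := h
  obtain ⟨r, f, hr, hch, hf, hcard⟩ := H115.HC.Rows.exists_char F
  have hB : Big r S := (H115.HC.Rows.big_group F h3 hr hcard).of_equiv e
  rcases Nat.eq_or_lt_of_le h3 with h4 | h4
  · have h5 : r = 3 := by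
      have h6 : r ∣ 3 := by rw [h4, hcard]; exact dvd_pow_self r hf.ne'
      exact (Nat.prime_dvd_prime_iff_eq hr Nat.prime_three).1 h6
    subst h5
    exact hB.conn (adj_congr e (GThree.adj_three_two (by rw [Nat.card_eq_fintype_card, ← h4])))
  · exact ExcIM.conn_of_cg hnc hr hB ((H396.CommTab.hasCG_G2 F r (exists_two h4)).of_equiv e.symm)

/-- **(Conn)** for `³D₄(q)` -/
theorem conn_3D4 {S : Type*} [Group S] [Finite S] (h : Lie.Iso3D4 S) (hs : IsSimpleGroup S)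
    (hnc : ¬ IsMulCommutative S) : ((degreeGraph S).induce (degreePrimes S)).Connected := by
  have h' := h
  obtain ⟨K, _, _, q, hq, hK, ⟨e⟩⟩ := h
  obtain ⟨r, f, hr, hch, hf, hcard⟩ := H115.HC.Rows.exists_char K
  have hB : Big r S := by
    refine Big.of_equiv e ?_
    obtain ⟨χ, hχ⟩ := H115.HC.TwDFour.big hq hK
    refine H115.HC.Rows.big_of_irr χ fun ℓ hℓ h1 h2 => hχ ℓ hℓ h1 fun h5 => h2 ?_
    have h6 : ℓ ∣ r ^ f := by
      rw [← hcard, hK]
      exact h5.trans (dvd_pow_self q (by norm_num))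
    exact (Nat.prime_dvd_prime_iff_eq hℓ hr).1 (hℓ.dvd_of_dvd_pow h6)
  exact ExcIM.conn_of_cg hnc hr hB ((H396.CommTab.hasCG_D4 hq hK r).of_equiv e.symm)

/-- **(Conn)** for `F₄(q)`, all `q` -/
theorem conn_F4 {S : Type*} [Group S] [Finite S] (h : Lie.IsoF4 S) (hs : IsSimpleGroup S)
    (hnc : ¬ IsMulCommutative S) : ((degreeGraph S).induce (degreePrimes S)).Connected := by
  refine ExcIM.conn_F4 h hs hnc fun F _ _ hF he => ?_
  obtain ⟨e⟩ := he
  have hch : CharP F 2 := by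
    obtain ⟨r, f, hr, hch, hf, hcard⟩ := H115.HC.Rows.exists_char F
    have h6 : r ∣ 2 := by rw [← hF, hcard]; exact dvd_pow_self r hf.ne'
    rwa [(Nat.prime_dvd_prime_iff_eq hr Nat.prime_two).1 h6] at hch
  obtain ⟨l, -, -, hl⟩ := Two.adj_F4 (F := F)
  exact ⟨l, adj_congr e hl⟩

end Cfsg.Agent.H996.Deg.ExcConn
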